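import Groth.Agent.Fan37.Cone
import Mathlib.CategoryTheory.Limits.Shapes.Pullback.IsPullback.Basic
import Mathlib.CategoryTheory.Limits.Types.Pullbacks
import Mathlib.CategoryTheory.Limits.Preserves.Shapes.Pullbacks
import Mathlib.CategoryTheory.Limits.FunctorCategory.Shapes.Pullbacks

/-! Projective realizations of formal fans: equality of points, functoriality, fibre products. -/

set_option autoImplicit false
universe u

namespace Groth.Agent.Fan37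

open Instab Instab.Fan CategoryTheory Opposite Limits

section Orth

variable {a b c : ICone}

theorem realMap_id (v : Fin a.dim → ℝ) : ICone.Hom.realMap (𝟙 a) v = v := rm_id v

theorem realMap_comp (φ : a ⟶ b) (ψ : b ⟶ c) (v : Fin a.dim → ℝ) :
    (φ ≫ ψ).realMap v = ψ.realMap (φ.realMap v) := rm_comp ψ.toLin φ.toLin v

theorem realMap_smul (φ : a ⟶ b) (t : ℝ) (v : Fin a.dim → ℝ) : φ.realMap (t • v) = t • φ.realMap v :=
  (rm φ.toLin).map_smul t v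

theorem realMap_injective (φ : a ⟶ b) : Function.Injective φ.realMap := rm_injective φ.injective

theorem toLin_nonneg (φ : a ⟶ b) (i : Fin a.dim) (j : Fin b.dim) : 0 ≤ φ.toLin (Pi.single i 1) j :=
  φ.nonneg _ (fun l => by by_cases h : l = i <;> simp [Pi.single_apply, h]) j

theorem realMap_nonneg (φ : a ⟶ b) (v : Orth a) (j : Fin b.dim) : 0 ≤ φ.realMap v.1 j :=
  Finset.sum_nonneg fun i _ => mul_nonneg (by exact_mod_cast toLin_nonneg φ i j) (v.2.1 i)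

theorem realMap_ne_zero (φ : a ⟶ b) (v : Orth a) : φ.realMap v.1 ≠ 0 := fun h =>
  v.2.2 (realMap_injective φ (h.trans (rm φ.toLin).map_zero.symm))

/-- The map of punctured orthants of a cone morphism. -/
def push (φ : a ⟶ b) (v : Orth a) : Orth b := ⟨φ.realMap v.1, realMap_nonneg φ v, realMap_ne_zero φ v⟩

@[simp] theorem push_val (φ : a ⟶ b) (v : Orth a) : (push φ v).1 = φ.realMap v.1 := rfl

theorem push_id (v : Orth a) : push (𝟙 a) v = v := Subtype.ext (realMap_id v.1)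

theorem push_comp (φ : a ⟶ b) (ψ : b ⟶ c) (v : Orth a) : push (φ ≫ ψ) v = push ψ (push φ v) :=
  Subtype.ext (realMap_comp φ ψ v.1)

/-- Rescaling of a point of the orthant. -/
def scale (t : ℝ) (ht : 0 < t) (v : Orth a) : Orth a :=
  ⟨t • v.1, fun i => mul_nonneg ht.le (v.2.1 i), smul_ne_zero ht.ne' v.2.2⟩

@[simp] theorem scale_val (t : ℝ) (ht : 0 < t) (v : Orth a) : (scale t ht v).1 = t • v.1 := rfl

end Orth

variable {F G H : Fan.{u}}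

/-- The explicit form of equality of points of the projective realization. -/
def Eqv (p q : Pt F) : Prop :=
  ∃ (k : ICone) (φ₁ : k ⟶ p.1.1) (φ₂ : k ⟶ q.1.1) (y : Orth k) (c₁ c₂ : ℝ),
    F.map φ₁.op p.1.2 = F.map φ₂.op q.1.2 ∧ 0 < c₁ ∧ 0 < c₂ ∧
      p.2.1 = c₁ • φ₁.realMap y.1 ∧ q.2.1 = c₂ • φ₂.realMap y.1

theorem eqv_equivalence : Equivalence (Eqv (F := F)) where
  refl p := ⟨p.1.1, 𝟙 _, 𝟙 _, p.2, 1, 1, rfl, one_pos, one_pos, by rw [one_smul, realMap_id],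
    by rw [one_smul, realMap_id]⟩
  symm := fun ⟨k, φ₁, φ₂, y, c₁, c₂, h, h₁, h₂, e₁, e₂⟩ => ⟨k, φ₂, φ₁, y, c₂, c₁, h.symm, h₂, h₁, e₂, e₁⟩
  trans := by
    rintro p q r ⟨k, φ₁, φ₂, y, c₁, c₂, h, h₁, h₂, e₁, e₂⟩ ⟨k', ψ₂, ψ₃, y', d₂, d₃, h', hd₂, hd₃, f₂, f₃⟩
    obtain ⟨m, α, β, z, hcomp, hy, hy'⟩ := exists_common φ₂.toLin ψ₂.toLin φ₂.injective ψ₂.injective y
      (scale (d₂ / c₂) (div_pos hd₂ h₂) y') (by
        rw [← realMap_eq, ← realMap_eq, scale_val, realMap_smul, div_eq_inv_mul, ← smul_smul, ← f₂, e₂,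
          smul_smul, inv_mul_cancel₀ h₂.ne', one_smul])
    have hcomp' : α ≫ φ₂ = β ≫ ψ₂ := ICone.Hom.ext hcomp
    refine ⟨m, α ≫ φ₁, β ≫ ψ₃, z, c₁, d₃ * (c₂ / d₂), ?_, h₁, mul_pos hd₃ (div_pos h₂ hd₂), ?_, ?_⟩
    · calc F.map (α ≫ φ₁).op p.1.2 = F.map α.op (F.map φ₁.op p.1.2) := by
            rw [op_comp, FunctorToTypes.map_comp_apply]
        _ = F.map α.op (F.map φ₂.op q.1.2) := by rw [h]
        _ = F.map (α ≫ φ₂).op q.1.2 := by rw [op_comp, FunctorToTypes.map_comp_apply]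
        _ = F.map (β ≫ ψ₂).op q.1.2 := by rw [hcomp']
        _ = F.map β.op (F.map ψ₂.op q.1.2) := by rw [op_comp, FunctorToTypes.map_comp_apply]
        _ = F.map β.op (F.map ψ₃.op r.1.2) := by rw [h']
        _ = F.map (β ≫ ψ₃).op r.1.2 := by rw [op_comp, FunctorToTypes.map_comp_apply]
    · rw [realMap_comp, ← hy]; exact e₁
    · rw [realMap_comp, ← hy', scale_val, realMap_smul, smul_smul, f₃]
      congr 1
      field_simp

theorem rel_eqv {p q : Pt F} (h : Rel F p q) : Eqv p q := by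
  obtain ⟨φ, ξ, v, w, c, hc, h⟩ := h
  refine ⟨_, 𝟙 _, φ, v, 1, c, ?_, one_pos, hc, ?_, h⟩
  · rw [op_id, FunctorToTypes.map_id_apply]
  · rw [one_smul, realMap_id]

theorem mk_map {k n : ICone} (φ : k ⟶ n) (ξ : F.obj (op n)) (v : Orth k) :
    P.mk (F.map φ.op ξ) v = P.mk ξ (push φ v) :=
  Quot.sound (Rel.glue φ ξ v (push φ v) 1 one_pos (by rw [one_smul]; rfl))

theorem mk_scale {n : ICone} (ξ : F.obj (op n)) {v w : Orth n} {c : ℝ} (hc : 0 < c) (h : w.1 = c • v.1) :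
    P.mk ξ v = P.mk ξ w := by
  have := Quot.sound (Rel.glue (F := F) (𝟙 n) ξ v w c hc (by rw [realMap_id]; exact h))
  rw [op_id, FunctorToTypes.map_id_apply] at this
  exact this

theorem mk_eq_of_common {k n₁ n₂ : ICone} {σ₁ : F.obj (op n₁)} {σ₂ : F.obj (op n₂)} (φ₁ : k ⟶ n₁) (φ₂ : k ⟶ n₂)
    (h : F.map φ₁.op σ₁ = F.map φ₂.op σ₂) {v₁ : Orth n₁} {v₂ : Orth n₂} (y : Orth k) {c₁ c₂ : ℝ} (h₁ : 0 < c₁)
    (h₂ : 0 < c₂) (e₁ : v₁.1 = c₁ • φ₁.realMap y.1) (e₂ : v₂.1 = c₂ • φ₂.realMap y.1) :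
    P.mk σ₁ v₁ = P.mk σ₂ v₂ :=
  calc P.mk σ₁ v₁ = P.mk σ₁ (push φ₁ y) := (mk_scale σ₁ h₁ e₁).symm
    _ = P.mk (F.map φ₁.op σ₁) y := (mk_map φ₁ σ₁ y).symm
    _ = P.mk (F.map φ₂.op σ₂) y := by rw [h]
    _ = P.mk σ₂ (push φ₂ y) := mk_map φ₂ σ₂ y
    _ = P.mk σ₂ v₂ := mk_scale σ₂ h₂ e₂

theorem mk_eq_iff {n₁ n₂ : ICone} (σ₁ : F.obj (op n₁)) (σ₂ : F.obj (op n₂)) (v₁ : Orth n₁) (v₂ : Orth n₂) :
    P.mk σ₁ v₁ = P.mk σ₂ v₂ ↔ ∃ (k : ICone) (φ₁ : k ⟶ n₁) (φ₂ : k ⟶ n₂) (y : Orth k) (c₁ c₂ : ℝ),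
      F.map φ₁.op σ₁ = F.map φ₂.op σ₂ ∧ 0 < c₁ ∧ 0 < c₂ ∧
        v₁.1 = c₁ • φ₁.realMap y.1 ∧ v₂.1 = c₂ • φ₂.realMap y.1 := by
  refine ⟨fun h => ?_, fun ⟨k, φ₁, φ₂, y, c₁, c₂, h, h₁, h₂, e₁, e₂⟩ => mk_eq_of_common φ₁ φ₂ h y h₁ h₂ e₁ e₂⟩
  exact eqv_equivalence.eqvGen_iff.1
    (Relation.EqvGen.mono (r := Rel F) (fun _ _ h => rel_eqv h) _ _ (Quot.eqvGen_exact h))

theorem exists_mk (x : P F) : ∃ (n : ICone) (ξ : F.obj (op n)) (v : Orth n), P.mk ξ v = x :=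
  Quot.inductionOn x fun p => ⟨p.1.1, p.1.2, p.2, rfl⟩

@[simp] theorem map_mk (f : F ⟶ G) {n : ICone} (ξ : F.obj (op n)) (v : Orth n) :
    P.map f (P.mk ξ v) = P.mk (f.app _ ξ) v := rfl

theorem map_comp (f : F ⟶ G) (g : G ⟶ H) (x : P F) : P.map (f ≫ g) x = P.map g (P.map f x) := by
  obtain ⟨n, ξ, v, rfl⟩ := exists_mk x
  rfl

theorem map_id (x : P F) : P.map (𝟙 F) x = x := by
  obtain ⟨n, ξ, v, rfl⟩ := exists_mk x
  rfl

theorem map_injective {f : F ⟶ G} (hf : ∀ n : ICone, Function.Injective (f.app (op n))) :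
    Function.Injective (P.map f) := by
  intro x y h
  obtain ⟨n₁, σ₁, v₁, rfl⟩ := exists_mk x
  obtain ⟨n₂, σ₂, v₂, rfl⟩ := exists_mk y
  rw [map_mk, map_mk, mk_eq_iff] at h
  obtain ⟨k, φ₁, φ₂, y, c₁, c₂, h, h₁, h₂, e₁, e₂⟩ := h
  rw [← NatTrans.naturality_apply f φ₁.op σ₁, ← NatTrans.naturality_apply f φ₂.op σ₂] at h
  exact mk_eq_of_common φ₁ φ₂ (hf k h) y h₁ h₂ e₁ e₂

theorem map_surjective {f : F ⟶ G} (hf : ∀ n : ICone, Function.Surjective (f.app (op n))) :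
    Function.Surjective (P.map f) := by
  intro x
  obtain ⟨n, σ, v, rfl⟩ := exists_mk x
  obtain ⟨ρ, rfl⟩ := hf n σ
  exact ⟨P.mk ρ v, rfl⟩

section Yoneda

variable {n : ICone}

theorem coneMap_app (σ : F.obj (op n)) {k : ICone} (α : (uliftYoneda.{u}.obj n).obj (op k)) :
    (coneMap σ).app (op k) α = F.map (ULift.down α).op σ :=
  ConcreteCategory.congr_hom (uliftYonedaEquiv_symm_apply_app σ (op k)) α

/-- The tautological cone of the representable fan. -/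
def idc (n : ICone) : (uliftYoneda.{u}.obj n).obj (op n) := ULift.up (𝟙 n)

theorem coneMap_idc (σ : F.obj (op n)) : (coneMap σ).app (op n) (idc.{u} n) = σ := by
  rw [coneMap_app]
  show F.map (𝟙 n).op σ = σ
  rw [op_id, FunctorToTypes.map_id_apply]

theorem map_coneMap_mk (σ : F.obj (op n)) (v : Orth n) : P.map (coneMap σ) (P.mk (idc.{u} n) v) = P.mk σ v := by
  rw [map_mk, coneMap_idc]

theorem rep_map {k l : ICone} (β : l ⟶ k) (α : (uliftYoneda.{u}.obj n).obj (op k)) :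
    ((uliftYoneda.{u}.obj n).map β.op α).down = β ≫ α.down := rfl

theorem exists_idc (x : P (uliftYoneda.{u}.obj n)) : ∃ w, P.mk (idc.{u} n) w = x := by
  obtain ⟨k, α, v, rfl⟩ := exists_mk x
  refine ⟨push α.down v, ?_⟩
  rw [← mk_map]
  congr 1

theorem mk_rep {k : ICone} (α : (uliftYoneda.{u}.obj n).obj (op k)) (v : Orth k) :
    P.mk α v = P.mk (idc.{u} n) (push α.down v) := by
  rw [← mk_map]
  congr 1

theorem idc_eq_iff {v w : Orth n} :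
    P.mk (idc.{u} n) v = P.mk (idc.{u} n) w ↔ ∃ c : ℝ, 0 < c ∧ w.1 = c • v.1 := by
  refine ⟨fun h => ?_, fun ⟨c, hc, h⟩ => mk_scale _ hc h⟩
  obtain ⟨k, φ₁, φ₂, y, c₁, c₂, h, h₁, h₂, e₁, e₂⟩ := (mk_eq_iff _ _ _ _).1 h
  have e : φ₁ = φ₂ := by
    have := congr_arg ULift.down h
    rw [rep_map, rep_map] at this
    simpa [idc] using this
  subst e
  refine ⟨c₂ / c₁, div_pos h₂ h₁, ?_⟩
  rw [e₁, e₂, smul_smul, div_mul_cancel₀ _ h₁.ne']

theorem cell_eq_range (σ : F.obj (op n)) : P.cell σ = Set.range (P.map (coneMap σ)) := by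
  ext x
  constructor
  · rintro ⟨v, rfl⟩
    exact ⟨_, map_coneMap_mk σ v⟩
  · rintro ⟨z, rfl⟩
    obtain ⟨v, rfl⟩ := exists_idc z
    exact ⟨v, (map_coneMap_mk σ v).symm⟩

end Yoneda

section Pullback

variable (f : F ⟶ G) {F' : Fan.{u}} (g : F' ⟶ G)

theorem isPullback_obj (n : ICone) :
    IsPullback ((pullback.fst f g).app (op n)) ((pullback.snd f g).app (op n)) (f.app (op n)) (g.app (op n)) :=
  (IsPullback.of_hasPullback f g).app (op n)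

theorem exists_pullback_obj {n : ICone} (a : F.obj (op n)) (b : F'.obj (op n))
    (h : f.app (op n) a = g.app (op n) b) :
    ∃ e, (pullback.fst f g).app (op n) e = a ∧ (pullback.snd f g).app (op n) e = b :=
  Types.exists_of_isPullback (isPullback_obj f g n) a b h

theorem pullback_condition_obj {n : ICone} (e : (pullback f g).obj (op n)) :
    f.app (op n) ((pullback.fst f g).app (op n) e) = g.app (op n) ((pullback.snd f g).app (op n) e) :=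
  ConcreteCategory.congr_hom (isPullback_obj f g n).w e

theorem pullback_map_w (x : P (pullback f g)) :
    P.map f (P.map (pullback.fst f g) x) = P.map g (P.map (pullback.snd f g) x) := by
  rw [← map_comp, ← map_comp, pullback.condition]

theorem exists_lift {x : P F} {x' : P F'} (h : P.map f x = P.map g x') :
    ∃ y, P.map (pullback.fst f g) y = x ∧ P.map (pullback.snd f g) y = x' := by
  obtain ⟨n₁, σ₁, v₁, rfl⟩ := exists_mk x
  obtain ⟨n₂, σ₂, v₂, rfl⟩ := exists_mk x'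
  rw [map_mk, map_mk, mk_eq_iff] at h
  obtain ⟨k, φ₁, φ₂, y, c₁, c₂, h, h₁, h₂, e₁, e₂⟩ := h
  rw [← NatTrans.naturality_apply f φ₁.op σ₁, ← NatTrans.naturality_apply g φ₂.op σ₂] at h
  obtain ⟨e, he₁, he₂⟩ := exists_pullback_obj f g _ _ h
  refine ⟨P.mk e y, ?_, ?_⟩
  · rw [map_mk, he₁, mk_map]; exact mk_scale _ h₁ e₁
  · rw [map_mk, he₂, mk_map]; exact mk_scale _ h₂ e₂

theorem range_map_snd : Set.range (P.map (pullback.snd f g)) = P.map g ⁻¹' Set.range (P.map f) := by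
  ext x'
  constructor
  · rintro ⟨y, rfl⟩
    exact ⟨_, pullback_map_w f g y⟩
  · rintro ⟨x, hx⟩
    obtain ⟨y, -, hy⟩ := exists_lift f g hx
    exact ⟨y, hy⟩

end Pullback

theorem range_map_eq (f : F ⟶ G) : Set.range (P.map f) = Set.range (P.map (Subfunctor.range f).ι) := by
  ext x
  constructor
  · rintro ⟨y, rfl⟩
    exact ⟨P.map (Subfunctor.toRange f) y, by rw [← map_comp, Subfunctor.toRange_ι]⟩
  · rintro ⟨y, rfl⟩
    obtain ⟨n, ⟨ξ, ρ, rfl⟩, v, rfl⟩ := exists_mk y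
    exact ⟨P.mk ρ v, rfl⟩

theorem isBounded_of_surjective {f : F ⟶ G} (hf : Function.Surjective (P.map f)) (hF : F.IsBounded) :
    G.IsBounded := by
  classical
  obtain ⟨s, hs⟩ := hF
  refine ⟨s.image fun e => ⟨e.1, f.app _ e.2⟩, fun x => ?_⟩
  obtain ⟨y, rfl⟩ := hf x
  obtain ⟨e, he, v, rfl⟩ := hs y
  exact ⟨_, Finset.mem_image_of_mem _ he, v, rfl⟩

theorem isBounded_of_finite_cover {ι : Type*} (s : Finset ι) (E : ι → Fan.{u}) (h : ∀ i, E i ⟶ F)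
    (hE : ∀ i ∈ s, (E i).IsBounded) (hcov : ∀ x, ∃ i ∈ s, x ∈ Set.range (P.map (h i))) : F.IsBounded := by
  classical
  choose t ht using hE
  refine ⟨s.attach.biUnion fun i => (t i.1 i.2).image fun e => ⟨e.1, (h i.1).app _ e.2⟩, fun x => ?_⟩
  obtain ⟨i, hi, y, rfl⟩ := hcov x
  obtain ⟨e, he, v, rfl⟩ := ht i hi y
  exact ⟨_, Finset.mem_biUnion.2 ⟨⟨i, hi⟩, Finset.mem_attach _ _, Finset.mem_image_of_mem _ he⟩, v, rfl⟩

theorem isBounded_rep (n : ICone) : Fan.IsBounded (uliftYoneda.{u}.obj n) :=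
  ⟨{⟨n, idc.{u} n⟩}, fun x => ⟨⟨n, idc.{u} n⟩, Finset.mem_singleton_self _, exists_idc x⟩⟩

theorem isBounded_of_iso {G : Fan.{u}} (e : F ≅ G) (hF : F.IsBounded) : G.IsBounded :=
  isBounded_of_surjective (f := e.hom) (fun x => ⟨P.map e.inv x, by rw [← map_comp, e.inv_hom_id, map_id]⟩) hF

theorem isQuasiSeparated_iff (G : Fan.{u}) :
    G.IsQuasiSeparated ↔ ∀ (F : Fan.{u}) (f : F ⟶ G), F.IsBounded → Fan.IsBoundedMap f := by
  refine ⟨fun hG F f hF n σ => ?_, fun h n₀ n₁ σ₀ σ₁ => h _ (coneMap σ₀) (isBounded_rep n₀) n₁ σ₁⟩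
  obtain ⟨s, hs⟩ := hF
  refine isBounded_of_finite_cover s (fun e => pullback (coneMap e.2) (pullback.fst f (coneMap σ)))
    (fun e => pullback.snd _ _) (fun e _ => ?_) fun x => ?_
  · have h1 := hG e.1 n (f.app _ e.2) σ
    have h2 : coneMap (f.app _ e.2) = coneMap e.2 ≫ f := by
      apply uliftYonedaEquiv.injective
      rw [coneMap, Equiv.apply_symm_apply, uliftYonedaEquiv_comp, coneMap, Equiv.apply_symm_apply]
    exact isBounded_of_iso (pullback.congrHom h2 rfl ≪≫ (pullbackRightPullbackFstIso f (coneMap σ) (coneMap e.2)).symm) h1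
  · obtain ⟨e, he, hx⟩ := hs (P.map (pullback.fst f (coneMap σ)) x)
    refine ⟨e, he, ?_⟩
    rw [range_map_snd, Set.mem_preimage, ← cell_eq_range]
    exact hx

/-- Intersections and unions of realizable sets are realizable. -/
theorem isRealizable_inter {U V : Set (P F)} (hU : IsRealizable U) (hV : IsRealizable V) :
    IsRealizable (U ∩ V) := by
  obtain ⟨S, rfl⟩ := hU
  obtain ⟨T, rfl⟩ := hV
  refine ⟨S ⊓ T, Set.Subset.antisymm ?_ ?_⟩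
  · rintro x ⟨⟨a, rfl⟩, b, hb⟩
    obtain ⟨n₁, ⟨σ₁, hσ₁⟩, v₁, rfl⟩ := exists_mk a
    obtain ⟨n₂, ⟨σ₂, hσ₂⟩, v₂, rfl⟩ := exists_mk b
    obtain ⟨k, φ₁, φ₂, y, c₁, c₂, h, h₁, h₂, e₁, e₂⟩ := (mk_eq_iff σ₂ σ₁ v₂ v₁).1 hb
    have hm : F.map φ₂.op σ₁ ∈ (S ⊓ T).obj (op k) := ⟨S.map φ₂.op hσ₁, h ▸ T.map φ₁.op hσ₂⟩
    refine ⟨P.mk (⟨_, hm⟩ : (S ⊓ T).toFunctor.obj (op k)) y, ?_⟩
    show P.mk (F.map φ₂.op σ₁) y = P.mk σ₁ v₁
    rw [mk_map]
    exact mk_scale _ h₂ e₂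
  · rintro x ⟨a, rfl⟩
    obtain ⟨n, ⟨σ, h1, h2⟩, v, rfl⟩ := exists_mk a
    exact ⟨⟨P.mk (⟨σ, h1⟩ : S.toFunctor.obj (op n)) v, rfl⟩, P.mk (⟨σ, h2⟩ : T.toFunctor.obj (op n)) v, rfl⟩

theorem isRealizable_iUnion {ι : Type*} {U : ι → Set (P F)} (hU : ∀ i, IsRealizable (U i)) :
    IsRealizable (Set.iUnion U) := by
  choose S hS using hU
  refine ⟨⨆ i, S i, Set.Subset.antisymm ?_ ?_⟩
  · intro x hx
    obtain ⟨i, hi⟩ := Set.mem_iUnion.1 hx
    rw [hS i] at hi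
    obtain ⟨a, rfl⟩ := hi
    obtain ⟨n, ⟨σ, hσ⟩, v, rfl⟩ := exists_mk a
    have : σ ∈ (⨆ i, S i).obj (op n) := by rw [Subfunctor.iSup_obj]; exact Set.mem_iUnion.2 ⟨i, hσ⟩
    exact ⟨P.mk (⟨σ, this⟩ : (⨆ i, S i).toFunctor.obj (op n)) v, rfl⟩
  · rintro x ⟨a, rfl⟩
    obtain ⟨n, ⟨σ, hσ⟩, v, rfl⟩ := exists_mk a
    rw [Subfunctor.iSup_obj] at hσ
    obtain ⟨i, hi⟩ := Set.mem_iUnion.1 hσ
    refine Set.mem_iUnion.2 ⟨i, ?_⟩
    rw [hS i]
    exact ⟨P.mk (⟨σ, hi⟩ : (S i).toFunctor.obj (op n)) v, rfl⟩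

end Groth.Agent.Fan37
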