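import Groth.Prelude.Def_W4c6instabfans3Fan
import Mathlib.LinearAlgebra.FreeModule.PID
import Mathlib.LinearAlgebra.Dimension.Free
import Mathlib.RingTheory.PrincipalIdealDomain
import Mathlib.Algebra.EuclideanDomain.Int
import Mathlib.LinearAlgebra.LinearIndependent.Basic
import Mathlib.Algebra.Order.Floor.Ring
import Mathlib.Data.Real.Basic
import Mathlib.Data.Real.Archimedean

/-! Linear algebra of integral simplicial cones: real extensions and nonnegative kernels. -/

set_option autoImplicit false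

namespace Groth.Agent.Fan37

open Instab CategoryTheory

variable {k l N : ℕ}

/-- The real extension of an integral linear map. -/
def rm (L : (Fin k → ℤ) →ₗ[ℤ] (Fin N → ℤ)) : (Fin k → ℝ) →ₗ[ℝ] (Fin N → ℝ) where
  toFun v j := ∑ i, (L (Pi.single i 1) j : ℝ) * v i
  map_add' v w := funext fun j => by simp [mul_add, Finset.sum_add_distrib]
  map_smul' c v := funext fun j => by simp [Finset.mul_sum, mul_left_comm]

theorem rm_apply (L : (Fin k → ℤ) →ₗ[ℤ] (Fin N → ℤ)) (v : Fin k → ℝ) (j : Fin N) :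
    rm L v j = ∑ i, (L (Pi.single i 1) j : ℝ) * v i := rfl

theorem realMap_eq {a b : ICone} (φ : a ⟶ b) (v : Fin a.dim → ℝ) : φ.realMap v = rm φ.toLin v := rfl

theorem apply_eq_sum (L : (Fin k → ℤ) →ₗ[ℤ] (Fin N → ℤ)) (z : Fin k → ℤ) (j : Fin N) :
    L z j = ∑ i, L (Pi.single i 1) j * z i := by
  have e : z = ∑ i, z i • (Pi.single i (1 : ℤ) : Fin k → ℤ) := by
    funext l
    simp [Finset.sum_apply, Pi.single_apply]
  conv_lhs => rw [e]
  simp only [map_sum, map_smul, Finset.sum_apply, Pi.smul_apply, smul_eq_mul, mul_comm]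

theorem rm_cast (L : (Fin k → ℤ) →ₗ[ℤ] (Fin N → ℤ)) (z : Fin k → ℤ) (j : Fin N) :
    rm L (fun i => (z i : ℝ)) j = (L z j : ℝ) := by
  rw [rm_apply, apply_eq_sum L z j]
  push_cast
  rfl

theorem rm_comp (L : (Fin l → ℤ) →ₗ[ℤ] (Fin N → ℤ)) (M : (Fin k → ℤ) →ₗ[ℤ] (Fin l → ℤ)) (v : Fin k → ℝ) :
    rm (L.comp M) v = rm L (rm M v) := by
  funext j
  simp only [rm_apply, LinearMap.comp_apply, Finset.mul_sum]
  rw [Finset.sum_comm]
  refine Finset.sum_congr rfl fun i _ => ?_
  rw [apply_eq_sum L (M (Pi.single i 1)) j]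
  push_cast
  rw [Finset.sum_mul]
  exact Finset.sum_congr rfl fun _ _ => by ring

theorem rm_id (v : Fin k → ℝ) : rm (LinearMap.id : (Fin k → ℤ) →ₗ[ℤ] _) v = v := by
  funext j
  rw [rm_apply, Finset.sum_eq_single j (fun i _ hi => by simp [Pi.single_apply, hi.symm]) (by simp)]
  simp

/-- A real kernel vector is a combination of integral kernel vectors with smaller support. -/
theorem exists_decomp (L : (Fin k → ℤ) →ₗ[ℤ] (Fin N → ℤ)) (x : Fin k → ℝ) (hx : rm L x = 0) :
    ∃ (m : ℕ) (b : Fin m → ℝ) (z : Fin m → Fin k → ℤ),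
      (∀ j, L (z j) = 0) ∧ (∀ i, x i = ∑ j, b j * (z j i : ℝ)) ∧ ∀ j i, x i = 0 → z j i = 0 := by
  set V := Submodule.span ℤ (Set.range x) with hV
  have : Module.Finite ℤ V := Module.Finite.span_of_finite ℤ (Set.finite_range x)
  have : Module.Free ℤ V := Module.free_of_finite_type_torsion_free'
  let bs := Module.finBasis ℤ V
  let xi : Fin k → V := fun i => ⟨x i, Submodule.subset_span ⟨i, rfl⟩⟩
  have hrec : ∀ v : V, (v : ℝ) = ∑ j, (bs j : ℝ) * (bs.repr v j : ℝ) := fun v => by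
    conv_lhs => rw [← bs.sum_repr v]
    rw [Submodule.coe_sum]
    exact Finset.sum_congr rfl fun j _ => by rw [Submodule.coe_smul_of_tower, zsmul_eq_mul, mul_comm]
  refine ⟨_, fun j => (bs j : ℝ), fun j i => bs.repr (xi i) j, fun j => ?_, fun i => hrec (xi i), fun j i h => ?_⟩
  · funext r
    have h0 : (∑ i, L (Pi.single i 1) r • xi i) = 0 := by
      refine Subtype.ext ?_
      rw [Submodule.coe_sum, ZeroMemClass.coe_zero]
      simpa [rm_apply, xi, zsmul_eq_mul] using congr_fun hx r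
    have h1 := congr_arg (fun v => bs.repr v j) h0
    simp only [map_sum, map_zsmul, Finsupp.coe_finsetSum, Finset.sum_apply, Finsupp.coe_smul, Pi.smul_apply,
      smul_eq_mul, map_zero, Finsupp.coe_zero, Pi.zero_apply] at h1
    rw [apply_eq_sum, Pi.zero_apply]
    exact h1
  · have : xi i = 0 := Subtype.ext h
    simp [this]

theorem rm_injective {L : (Fin k → ℤ) →ₗ[ℤ] (Fin N → ℤ)} (hL : Function.Injective L) :
    Function.Injective (rm L) := by
  rw [← LinearMap.ker_eq_bot, Submodule.eq_bot_iff]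
  intro x hx
  obtain ⟨m, b, z, hz, hxz, -⟩ := exists_decomp L x hx
  have : ∀ j, z j = 0 := fun j => hL (by rw [hz j, map_zero])
  funext i
  simp [hxz, this]

theorem exists_pos_kernel (L : (Fin k → ℤ) →ₗ[ℤ] (Fin N → ℤ)) (x : Fin k → ℝ) (h0 : ∀ i, 0 ≤ x i)
    (hne : x ≠ 0) (hx : rm L x = 0) :
    ∃ z : Fin k → ℤ, (∀ i, 0 ≤ z i) ∧ z ≠ 0 ∧ L z = 0 ∧ ∀ i, x i = 0 → z i = 0 := by
  obtain ⟨m, b, z, hz, hxz, hsupp⟩ := exists_decomp L x hx
  have key : ∀ i, 0 < x i → ∀ᶠ M : ℕ in Filter.atTop, 0 < ∑ j, ⌊(M : ℝ) * b j⌋ * z j i := by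
    intro i hi
    obtain ⟨M₀, hM₀⟩ := exists_nat_gt ((∑ j, |(z j i : ℝ)|) / x i)
    filter_upwards [Filter.eventually_ge_atTop M₀] with M hM
    have h1 : |∑ j, ((⌊(M : ℝ) * b j⌋ : ℝ) - M * b j) * (z j i : ℝ)| ≤ ∑ j, |(z j i : ℝ)| := by
      refine (Finset.abs_sum_le_sum_abs _ _).trans (Finset.sum_le_sum fun j _ => ?_)
      rw [abs_mul]
      refine mul_le_of_le_one_left (abs_nonneg _) (abs_le.2 ⟨?_, ?_⟩)
      · linarith [Int.sub_one_lt_floor ((M : ℝ) * b j)]
      · linarith [Int.floor_le ((M : ℝ) * b j)]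
    rw [div_lt_iff₀ hi] at hM₀
    have h2 : (M₀ : ℝ) * x i ≤ M * x i := mul_le_mul_of_nonneg_right (Nat.cast_le.2 hM) hi.le
    have h3 : ∑ j, ((⌊(M : ℝ) * b j⌋ : ℝ) - M * b j) * (z j i : ℝ) =
        (∑ j, (⌊(M : ℝ) * b j⌋ : ℝ) * (z j i : ℝ)) - M * x i := by
      rw [hxz i, Finset.mul_sum, ← Finset.sum_sub_distrib]
      exact Finset.sum_congr rfl fun _ _ => by ring
    rw [h3] at h1
    have := (abs_le.1 h1).1
    have h4 : (0 : ℝ) < ∑ j, (⌊(M : ℝ) * b j⌋ : ℝ) * (z j i : ℝ) := by linarith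
    exact_mod_cast h4
  obtain ⟨M, hM⟩ := (Filter.eventually_all.2 fun i : {i // 0 < x i} => key i.1 i.2).exists
  refine ⟨fun i => ∑ j, ⌊(M : ℝ) * b j⌋ * z j i, fun i => ?_, fun h => ?_, ?_, fun i hi => by simp [hsupp _ i hi]⟩
  · rcases (h0 i).lt_or_eq with hi | hi
    · exact (hM ⟨i, hi⟩).le
    · simp [hsupp _ i hi.symm]
  · obtain ⟨i, hi⟩ := Function.ne_iff.1 hne
    exact (hM ⟨i, (h0 i).lt_of_ne' hi⟩).ne' (congr_fun h i)
  · have : (fun i => ∑ j, ⌊(M : ℝ) * b j⌋ * z j i) = ∑ j, ⌊(M : ℝ) * b j⌋ • z j := by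
      funext i; simp [Finset.sum_apply]
    rw [this, map_sum]
    exact Finset.sum_eq_zero fun j _ => by rw [map_zsmul, hz, smul_zero]

/-- A nonnegative real kernel vector is a nonnegative combination of linearly independent nonnegative
integral kernel vectors. -/
theorem exists_simplicial (L : (Fin k → ℤ) →ₗ[ℤ] (Fin N → ℤ)) (x : Fin k → ℝ) (h0 : ∀ i, 0 ≤ x i)
    (hx : rm L x = 0) :
    ∃ (m : ℕ) (g : Fin m → Fin k → ℤ) (c : Fin m → ℝ), LinearIndependent ℤ g ∧
      (∀ l, (∀ i, 0 ≤ g l i) ∧ L (g l) = 0 ∧ ∀ i, x i = 0 → g l i = 0) ∧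
      (∀ l, 0 ≤ c l) ∧ ∀ i, x i = ∑ l, c l * (g l i : ℝ) := by
  classical
  induction h : (Finset.univ.filter fun i => x i ≠ 0).card using Nat.strong_induction_on generalizing x with
  | _ s ih =>
    subst h
    by_cases hne : x = 0
    · subst hne
      exact ⟨0, Fin.elim0, Fin.elim0, linearIndependent_empty_type, fun l => l.elim0, fun l => l.elim0, by simp⟩
    obtain ⟨z, hz0, hzne, hzL, hzs⟩ := exists_pos_kernel L x h0 hne hx
    have hS : (Finset.univ.filter fun i => 0 < z i).Nonempty := by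
      obtain ⟨i, hi⟩ := Function.ne_iff.1 hzne
      exact ⟨i, Finset.mem_filter.2 ⟨Finset.mem_univ _, (hz0 i).lt_of_ne' hi⟩⟩
    obtain ⟨i₀, hi₀, hmin⟩ := Finset.exists_min_image _ (fun i => x i / (z i : ℝ)) hS
    simp only [Finset.mem_filter, Finset.mem_univ, true_and] at hi₀ hmin
    have hpos : (0 : ℝ) < z i₀ := by exact_mod_cast hi₀
    set t := x i₀ / (z i₀ : ℝ) with ht
    have ht0 : 0 ≤ t := div_nonneg (h0 i₀) hpos.le
    set x' : Fin k → ℝ := x - t • fun i => (z i : ℝ) with hx'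
    have hx'0 : ∀ i, 0 ≤ x' i := fun i => by
      simp only [hx', Pi.sub_apply, Pi.smul_apply, smul_eq_mul, sub_nonneg]
      rcases (hz0 i).lt_or_eq with hi | hi
      · exact (le_div_iff₀ (by exact_mod_cast hi)).1 (hmin i hi)
      · simp [← hi, h0 i]
    have hx'i : x' i₀ = 0 := by
      simp only [hx', Pi.sub_apply, Pi.smul_apply, smul_eq_mul, ht]
      field_simp
      ring
    have hsub : ∀ i, x i = 0 → x' i = 0 := fun i hi => by simp [hx', hi, hzs i hi]
    have hlt : (Finset.univ.filter fun i => x' i ≠ 0).card < (Finset.univ.filter fun i => x i ≠ 0).card := by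
      refine Finset.card_lt_card ⟨fun i => ?_, fun hh => ?_⟩
      · simp only [Finset.mem_filter, Finset.mem_univ, true_and]
        exact mt (hsub i)
      · have : i₀ ∈ Finset.univ.filter fun i => x' i ≠ 0 :=
          hh (Finset.mem_filter.2 ⟨Finset.mem_univ _, fun h => hi₀.ne' (hzs i₀ h)⟩)
        exact (Finset.mem_filter.1 this).2 hx'i
    obtain ⟨m, g, c, hg, hgp, hc, hsum⟩ := ih _ hlt x' hx'0 (by
      funext j
      rw [hx', map_sub, map_smul, hx]
      simp [rm_cast, hzL]) rfl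
    refine ⟨m + 1, Fin.cons z g, Fin.cons t c, Fintype.linearIndependent_iff.2 fun a ha => ?_,
      fun l => ?_, fun l => ?_, fun i => ?_⟩
    · rw [Fin.sum_univ_succ] at ha
      simp only [Fin.cons_zero, Fin.cons_succ] at ha
      have h1 := congr_fun ha i₀
      simp only [Pi.add_apply, Pi.smul_apply, smul_eq_mul, Finset.sum_apply, (hgp _).2.2 i₀ hx'i, mul_zero,
        Finset.sum_const_zero, add_zero, Pi.zero_apply, mul_eq_zero] at h1
      have ha0 : a 0 = 0 := h1.resolve_right hi₀.ne'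
      rw [ha0, zero_smul, zero_add] at ha
      exact fun l => Fin.cases ha0 (Fintype.linearIndependent_iff.1 hg _ ha) l
    · refine Fin.cases ⟨hz0, hzL, hzs⟩ (fun l => ?_) l
      simpa using ⟨(hgp l).1, (hgp l).2.1, fun i hi => (hgp l).2.2 i (hsub i hi)⟩
    · exact Fin.cases ht0 (fun l => by simpa using hc l) l
    · rw [Fin.sum_univ_succ]
      simp only [Fin.cons_zero, Fin.cons_succ]
      rw [← hsum i]
      simp [hx']

/-- Two injective integral maps meet along a common integral simplicial cone. -/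
theorem exists_common {a b : ICone} (φ : (Fin a.dim → ℤ) →ₗ[ℤ] (Fin N → ℤ)) (ψ : (Fin b.dim → ℤ) →ₗ[ℤ] (Fin N → ℤ))
    (hφ : Function.Injective φ) (hψ : Function.Injective ψ) (v : Fan.Orth a) (w : Fan.Orth b)
    (h : rm φ v.1 = rm ψ w.1) :
    ∃ (m : ICone) (α : m ⟶ a) (β : m ⟶ b) (z : Fan.Orth m),
      φ.comp α.toLin = ψ.comp β.toLin ∧ v.1 = α.realMap z.1 ∧ w.1 = β.realMap z.1 := by
  let p₁ : (Fin (a.dim + b.dim) → ℤ) →ₗ[ℤ] (Fin a.dim → ℤ) := LinearMap.funLeft ℤ ℤ (Fin.castAdd b.dim)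
  let p₂ : (Fin (a.dim + b.dim) → ℤ) →ₗ[ℤ] (Fin b.dim → ℤ) := LinearMap.funLeft ℤ ℤ (Fin.natAdd a.dim)
  let x : Fin (a.dim + b.dim) → ℝ := Fin.append v.1 w.1
  have hx0 : ∀ i, 0 ≤ x i := fun i => by
    refine Fin.addCases (fun i => ?_) (fun i => ?_) i
    · simpa [x] using v.2.1 i
    · simpa [x] using w.2.1 i
  have hker : rm (φ.comp p₁ - ψ.comp p₂) x = 0 := by
    funext j
    rw [rm_apply, Fin.sum_univ_add]
    have h1 : ∀ i : Fin a.dim, p₁ (Pi.single (Fin.castAdd b.dim i) 1) = Pi.single i 1 := fun i => by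
      funext l; simp [p₁, LinearMap.funLeft_apply, Pi.single_apply]
    have h2 : ∀ i : Fin a.dim, p₂ (Pi.single (Fin.castAdd b.dim i) 1) = 0 := fun i => by
      funext l
      simp [p₂, LinearMap.funLeft_apply, Pi.single_apply, Fin.ext_iff]
      omega
    have h3 : ∀ i : Fin b.dim, p₁ (Pi.single (Fin.natAdd a.dim i) 1) = 0 := fun i => by
      funext l
      simp [p₁, LinearMap.funLeft_apply, Pi.single_apply, Fin.ext_iff]
      omega
    have h4 : ∀ i : Fin b.dim, p₂ (Pi.single (Fin.natAdd a.dim i) 1) = Pi.single i 1 := fun i => by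
      funext l; simp [p₂, LinearMap.funLeft_apply, Pi.single_apply, Fin.ext_iff]
    simp only [LinearMap.sub_apply, LinearMap.comp_apply, h1, h2, h3, h4, map_zero, sub_zero, zero_sub, x,
      Fin.append_left, Fin.append_right, Pi.neg_apply, Int.cast_neg, neg_mul, Finset.sum_neg_distrib,
      ← rm_apply, h, add_neg_cancel, Pi.zero_apply]
  obtain ⟨m, g, c, hg, hgp, hc, hsum⟩ := exists_simplicial _ x hx0 hker
  have hm : 0 < m := Nat.pos_of_ne_zero fun hm => v.2.2 (funext fun i => by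
    subst hm
    simpa [x] using hsum (Fin.castAdd b.dim i))
  let θ : (Fin m → ℤ) →ₗ[ℤ] (Fin (a.dim + b.dim) → ℤ) := Fintype.linearCombination ℤ g
  have hθ0 : ∀ u : Fin m → ℤ, (∀ l, 0 ≤ u l) → ∀ i, 0 ≤ θ u i := fun u hu i => by
    simp only [θ, Fintype.linearCombination_apply, Finset.sum_apply, Pi.smul_apply, smul_eq_mul]
    exact Finset.sum_nonneg fun l _ => mul_nonneg (hu l) ((hgp l).1 i)
  have hθ : Function.Injective θ := linearIndependent_iff_injective_fintypeLinearCombination.1 hg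
  have hcomp : φ.comp (p₁.comp θ) = ψ.comp (p₂.comp θ) := by
    refine LinearMap.ext fun u => sub_eq_zero.1 ?_
    show (φ.comp p₁ - ψ.comp p₂) (θ u) = 0
    simp only [θ, Fintype.linearCombination_apply, map_sum, map_smul, (hgp _).2.1, smul_zero, Finset.sum_const_zero]
  have hsplit : ∀ u, p₁ (θ u) = 0 → p₂ (θ u) = 0 → u = 0 := fun u e₁ e₂ => hθ (by
    rw [map_zero]
    funext i
    refine Fin.addCases (fun i => ?_) (fun i => ?_) i
    · exact congr_fun e₁ i
    · exact congr_fun e₂ i)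
  have inj₁ : Function.Injective (p₁.comp θ) := by
    rw [← LinearMap.ker_eq_bot, Submodule.eq_bot_iff]
    intro u hu
    refine hsplit u hu (hψ ?_)
    rw [map_zero]
    have := LinearMap.congr_fun hcomp u
    simp only [LinearMap.comp_apply, LinearMap.mem_ker] at this hu
    rw [← this, hu, map_zero]
  have inj₂ : Function.Injective (p₂.comp θ) := by
    rw [← LinearMap.ker_eq_bot, Submodule.eq_bot_iff]
    intro u hu
    refine hsplit u (hφ ?_) hu
    rw [map_zero]
    have := LinearMap.congr_fun hcomp u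
    simp only [LinearMap.comp_apply, LinearMap.mem_ker] at this hu
    rw [this, hu, map_zero]
  have hθx : ∀ i, x i = ∑ l : Fin m, (θ (Pi.single l 1) i : ℝ) * c l := fun i => by
    rw [hsum i]
    simp [θ, Fintype.linearCombination_apply_single, mul_comm]
  refine ⟨⟨(⟨m, hm⟩ : ℕ+)⟩, ⟨p₁.comp θ, inj₁, fun u hu i => hθ0 u hu _⟩, ⟨p₂.comp θ, inj₂, fun u hu i => hθ0 u hu _⟩,
    ⟨c, hc, fun h0 => v.2.2 (funext fun i => ?_)⟩, hcomp, funext fun i => ?_, funext fun i => ?_⟩
  · have := hθx (Fin.castAdd b.dim i)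
    simp only [x, Fin.append_left] at this
    rw [this, Pi.zero_apply]
    exact Finset.sum_eq_zero fun l _ => by rw [show c l = 0 from congr_fun h0 l, mul_zero]
  · have := hθx (Fin.castAdd b.dim i)
    simp only [x, Fin.append_left] at this
    exact this
  · have := hθx (Fin.natAdd a.dim i)
    simp only [x, Fin.append_right] at this
    exact this

end Groth.Agent.Fan37
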