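import Groth.Agent.Fan37.Topology
import Groth.Prelude.Def_W4c6instabfans3FanCvx
import Mathlib.Topology.Connected.Basic
import Mathlib.Topology.Order.Compact

/-! Convex subsets of realizations and maxima of quasi-concave functions. -/

set_option autoImplicit false
universe u v

namespace Groth.Agent.Fan37

open Instab Instab.Fan CategoryTheory Opposite Topology Filter

variable {n : ICone} {F : Fan.{u}} {U : Set (P F)}

theorem exists_cell_subset (hU : IsRealizable U) {y : P F} (hy : y ∈ U) :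
    ∃ (n : ICone) (ξ : F.obj (op n)) (v : Orth n), P.mk ξ v = y ∧ P.cell ξ ⊆ U := by
  obtain ⟨S, rfl⟩ := hU
  obtain ⟨a, rfl⟩ := hy
  obtain ⟨n, ⟨ξ, hξ⟩, v, rfl⟩ := exists_mk a
  exact ⟨n, ξ, v, rfl, fun z ⟨w, hw⟩ => ⟨P.mk (⟨ξ, hξ⟩ : S.toFunctor.obj (op n)) w, hw⟩⟩

/-- Rays through integral points are dense. -/
theorem exists_intPt_mem {O : Set (Orth n)} (hO : IsOpen O) {v : Orth n} (hv : v ∈ O) :
    ∃ (u : Fin n.dim → ℤ) (h0 : ∀ i, 0 ≤ u i) (hne : u ≠ 0) (c : ℝ) (hc : 0 < c),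
      scale c hc (intPt u h0 hne) ∈ O := by
  let W : Set (Orth n) := ⋃ c : {c : ℝ // 0 < c}, scale c.1 c.2 ⁻¹' O
  have hW : IsOpen W := isOpen_iUnion fun c => hO.preimage ((continuous_val.const_smul c.1).subtype_mk _)
  by_contra hcon
  push Not at hcon
  have := eq_univ_of_intPt (S := Wᶜ) hW.isClosed_compl (fun w hw t ht => ?_) fun u h0 hne => ?_
  · refine (Set.eq_univ_iff_forall.1 this v) (Set.mem_iUnion.2 ⟨⟨1, one_pos⟩, ?_⟩)
    show scale 1 one_pos v ∈ O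
    rwa [show scale 1 one_pos v = v from Subtype.ext (one_smul ℝ v.1)]
  · intro h
    obtain ⟨c, hc⟩ := Set.mem_iUnion.1 h
    refine hw (Set.mem_iUnion.2 ⟨⟨c.1 * t, mul_pos c.2 ht⟩, ?_⟩)
    show scale _ _ w ∈ O
    rwa [show scale (c.1 * t) (mul_pos c.2 ht) w = scale c.1 c.2 (scale t ht w) from Subtype.ext (mul_smul c.1 t w.1)]
  · intro h
    obtain ⟨c, hc⟩ := Set.mem_iUnion.1 h
    exact hcon u h0 hne c.1 c.2 hc

/-- A convex combination of two points of the orthant. -/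
def mix (v w : Orth n) (t : Set.Icc (0 : ℝ) 1) : Orth n :=
  ⟨(1 - t.1) • v.1 + t.1 • w.1,
    fun i => add_nonneg (mul_nonneg (sub_nonneg.2 t.2.2) (v.2.1 i)) (mul_nonneg t.2.1 (w.2.1 i)), fun h => by
      rcases t.2.2.lt_or_eq with ht | ht
      · refine v.2.2 (funext fun i => ?_)
        have h1 : (1 - t.1) * v.1 i + t.1 * w.1 i = 0 := congr_fun h i
        have h2 := ((add_eq_zero_iff_of_nonneg (mul_nonneg (sub_nonneg.2 t.2.2) (v.2.1 i))
          (mul_nonneg t.2.1 (w.2.1 i))).1 h1).1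
        exact (mul_eq_zero.1 h2).resolve_left (sub_pos.2 ht).ne'
      · simp [ht, w.2.2] at h⟩

theorem continuous_mix (v w : Orth n) : Continuous (mix v w) :=
  (((continuous_const.sub continuous_subtype_val).smul continuous_const).add
    (continuous_subtype_val.smul continuous_const)).subtype_mk _

theorem mix_zero (v w : Orth n) : mix v w ⟨0, le_rfl, zero_le_one⟩ = v := by
  refine Subtype.ext ?_
  show (1 - (0 : ℝ)) • v.1 + (0 : ℝ) • w.1 = v.1
  simp

theorem mix_one (v w : Orth n) : mix v w ⟨1, zero_le_one, le_rfl⟩ = w := by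
  refine Subtype.ext ?_
  show (1 - (1 : ℝ)) • v.1 + (1 : ℝ) • w.1 = w.1
  simp

theorem not_proportional_basis : ¬ ∃ c : ℝ, (Orth.basis two 1).1 = c • (Orth.basis two 0).1 := by
  rintro ⟨c, hc⟩
  have h : (if (1 : Fin two.dim) = 1 then (1 : ℝ) else 0) = c * (if (1 : Fin two.dim) = 0 then 1 else 0) :=
    congr_fun hc (1 : Fin two.dim)
  rw [if_pos rfl, if_neg (show (1 : Fin two.dim) ≠ 0 by decide), mul_zero] at h
  exact one_ne_zero h

theorem mix_between (v w : Orth n) {t : Set.Icc (0 : ℝ) 1} (h0 : t.1 ≠ 0) (h1 : t.1 ≠ 1) :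
    ∃ a b : ℝ, 0 < a ∧ 0 < b ∧ (mix v w t).1 = a • v.1 + b • w.1 :=
  ⟨1 - t.1, t.1, sub_pos.2 (t.2.2.lt_of_ne h1), t.2.1.lt_of_ne' h0, rfl⟩

section QC

variable {Γ : Type v} [LinearOrder Γ] {Φ : U → Γ}

theorem segment_mem (hU : IsConvex U) {x y : U} (hxy : (x : P F) ≠ y) (hx : (x : P F).IsRational)
    (hy : (y : P F).IsRational) :
    ∃ (τ : F.obj (op two)) (p : Set.Icc (0 : ℝ) 1 → U), Continuous p ∧
      (∀ t, (p t : P F) = P.mk τ (mix (Orth.basis two 0) (Orth.basis two 1) t)) ∧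
      p ⟨0, le_rfl, zero_le_one⟩ = x ∧ p ⟨1, zero_le_one, le_rfl⟩ = y ∧
      P.mk τ (Orth.basis two 0) = x ∧ P.mk τ (Orth.basis two 1) = y := by
  obtain ⟨τ, hτ, h0, h1⟩ := hU.2.2 x y x.2 y.2 hx hy hxy
  exact ⟨τ, fun t => ⟨P.mk τ (mix _ _ t), hτ ⟨_, rfl⟩⟩,
    ((continuous_mk τ).comp (continuous_mix _ _)).subtype_mk _, fun t => rfl,
    Subtype.ext (by rw [← h0]; show P.mk τ _ = _; rw [mix_zero]),
    Subtype.ext (by rw [← h1]; show P.mk τ _ = _; rw [mix_one]), h0, h1⟩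

/-- The value strictly inside a segment. -/
theorem segment_qc (hΦ : IsQuasiConcaveOn U Φ) {τ : F.obj (op two)} {p : Set.Icc (0 : ℝ) 1 → U}
    (hp : ∀ t, (p t : P F) = P.mk τ (mix (Orth.basis two 0) (Orth.basis two 1) t)) {x y : U}
    (h0 : P.mk τ (Orth.basis two 0) = x) (h1 : P.mk τ (Orth.basis two 1) = y) {t : Set.Icc (0 : ℝ) 1}
    (ht0 : t.1 ≠ 0) (ht1 : t.1 ≠ 1) :
    min (Φ x) (Φ y) ≤ Φ (p t) ∧ (Φ (p t) = min (Φ x) (Φ y) → Φ x = Φ y) := by
  have hx : (⟨P.mk τ (Orth.basis two 0), h0 ▸ x.2⟩ : U) = x := Subtype.ext h0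
  have hy : (⟨P.mk τ (Orth.basis two 1), h1 ▸ y.2⟩ : U) = y := Subtype.ext h1
  have ht : (⟨P.mk τ (mix (Orth.basis two 0) (Orth.basis two 1) t), hp t ▸ (p t).2⟩ : U) = p t :=
    Subtype.ext (hp t).symm
  have := hΦ two τ _ _ _ (h0 ▸ x.2) (hp t ▸ (p t).2) (h1 ▸ y.2) not_proportional_basis (mix_between _ _ ht0 ht1)
  rwa [hx, hy, ht] at this

theorem segment_strict (hΦ : IsStrictQuasiConcaveOn U Φ) {τ : F.obj (op two)} {p : Set.Icc (0 : ℝ) 1 → U}
    (hp : ∀ t, (p t : P F) = P.mk τ (mix (Orth.basis two 0) (Orth.basis two 1) t)) {x y : U}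
    (h0 : P.mk τ (Orth.basis two 0) = x) (h1 : P.mk τ (Orth.basis two 1) = y) {t : Set.Icc (0 : ℝ) 1}
    (ht0 : t.1 ≠ 0) (ht1 : t.1 ≠ 1) : min (Φ x) (Φ y) < Φ (p t) := by
  have hx : (⟨P.mk τ (Orth.basis two 0), h0 ▸ x.2⟩ : U) = x := Subtype.ext h0
  have hy : (⟨P.mk τ (Orth.basis two 1), h1 ▸ y.2⟩ : U) = y := Subtype.ext h1
  have ht : (⟨P.mk τ (mix (Orth.basis two 0) (Orth.basis two 1) t), hp t ▸ (p t).2⟩ : U) = p t :=
    Subtype.ext (hp t).symm
  have := hΦ two τ _ _ _ (h0 ▸ x.2) (hp t ▸ (p t).2) (h1 ▸ y.2) not_proportional_basis (mix_between _ _ ht0 ht1)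
  rwa [hx, hy, ht] at this

theorem forall_le_of_isLocalMax (hU : IsConvex U) (hΦ : IsQuasiConcaveOn U Φ)
    (hlsc : ∀ c : Γ, IsClosed {x : U | Φ x ≤ c}) (x : U) (hx : (x : P F).IsRational) (hmax : IsLocalMax Φ x)
    (y : U) : Φ y ≤ Φ x := by
  by_contra hlt
  push Not at hlt
  obtain ⟨O, hO, hO'⟩ := isOpen_induced_iff.1 (hlsc (Φ x)).isOpen_compl
  obtain ⟨n, ξ, v, hv, hcell⟩ := exists_cell_subset hU.2.1 y.2
  have hvO : v ∈ P.mk ξ ⁻¹' O := by
    show P.mk ξ v ∈ O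
    rw [hv]
    have : y ∈ Subtype.val ⁻¹' O := hO' ▸ not_le.2 hlt
    exact this
  obtain ⟨u, h0, hne, c, hc, hu⟩ := exists_intPt_mem (hO.preimage (continuous_mk ξ)) hvO
  let y' : U := ⟨P.mk ξ (scale c hc (intPt u h0 hne)), hcell ⟨_, rfl⟩⟩
  have hy'r : (y' : P F).IsRational := by
    show (P.mk ξ (scale c hc (intPt u h0 hne))).IsRational
    rw [← mk_scale ξ (v := intPt u h0 hne) hc rfl]
    exact isRational_intPt ξ u h0 hne
  have hy' : Φ x < Φ y' := not_le.1 (by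
    have : y' ∈ ({x_1 : U | Φ x_1 ≤ Φ x})ᶜ := hO' ▸ hu
    exact this)
  have hxy : (x : P F) ≠ y' := fun e => (congr_arg Φ (Subtype.ext e : x = y')).not_lt hy'
  obtain ⟨τ, p, hp, hpt, hp0, hp1, e0, e1⟩ := segment_mem hU hxy hx hy'r
  have h1 : ∀ᶠ t in 𝓝 (⟨0, le_rfl, zero_le_one⟩ : Set.Icc (0 : ℝ) 1), Φ (p t) ≤ Φ x := by
    have := hp.tendsto ⟨0, le_rfl, zero_le_one⟩
    rw [hp0] at this
    exact this.eventually hmax
  obtain ⟨ε, hε, hball⟩ := Metric.eventually_nhds_iff.1 h1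
  have hs0 : 0 < min (ε / 2) (1 / 2) := lt_min (half_pos hε) one_half_pos
  let t : Set.Icc (0 : ℝ) 1 := ⟨min (ε / 2) (1 / 2), hs0.le, le_trans (min_le_right _ _) (by norm_num)⟩
  have ht : Φ (p t) ≤ Φ x := hball (by
    show dist (min (ε / 2) (1 / 2) : ℝ) 0 < ε
    rw [Real.dist_0_eq_abs, abs_of_pos hs0]
    exact (min_le_left _ _).trans_lt (half_lt_self hε))
  obtain ⟨h2, h3⟩ := segment_qc hΦ hpt e0 e1 (t := t) hs0.ne'
    (ne_of_lt ((min_le_right _ _).trans_lt (by norm_num)))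
  rw [min_eq_left hy'.le] at h2 h3
  exact (h3 (le_antisymm ht h2)).not_lt hy'

theorem eq_of_isLocalMax_rational (hU : IsConvex U) (hΦ : IsQuasiConcaveOn U Φ)
    (hlsc : ∀ c : Γ, IsClosed {x : U | Φ x ≤ c}) (hs : IsStrictQuasiConcaveOn U Φ) (x y : U)
    (hx : (x : P F).IsRational) (hy : (y : P F).IsRational) (hxm : IsLocalMax Φ x) (hym : IsLocalMax Φ y) :
    x = y := by
  by_contra hne
  obtain ⟨τ, p, hp, hpt, hp0, hp1, e0, e1⟩ := segment_mem hU (fun e => hne (Subtype.ext e)) hx hy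
  have hhalf := segment_strict hs hpt e0 e1 (t := ⟨1 / 2, by norm_num, by norm_num⟩) (by norm_num) (by norm_num)
  exact absurd hhalf (not_lt.2 (le_min (forall_le_of_isLocalMax hU hΦ hlsc x hx hxm _)
    (forall_le_of_isLocalMax hU hΦ hlsc y hy hym _)))

/-- Open subsets of a convex set that are stable under segments between rational points are preconnected. -/
theorem isPreconnected_of_segments (hU : IsConvex U) {V : Set U} (hV : IsOpen V)
    (hseg : ∀ x y : U, x ∈ V → y ∈ V → ∀ (τ : F.obj (op two)) (p : Set.Icc (0 : ℝ) 1 → U),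
      (∀ t, (p t : P F) = P.mk τ (mix (Orth.basis two 0) (Orth.basis two 1) t)) →
      P.mk τ (Orth.basis two 0) = x → P.mk τ (Orth.basis two 1) = y → ∀ t, p t ∈ V) :
    IsPreconnected V := by
  refine isPreconnected_of_forall_pair fun x hx y hy => ?_
  have near : ∀ z ∈ V, ∃ r : U, (r : P F).IsRational ∧ r ∈ V ∧
      ∃ T, T ⊆ V ∧ z ∈ T ∧ r ∈ T ∧ IsPreconnected T := by
    intro z hz
    obtain ⟨n, ξ, v, hv, hcell⟩ := exists_cell_subset hU.2.1 z.2
    let q : Orth n → U := fun w => ⟨P.mk ξ w, hcell ⟨w, rfl⟩⟩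
    have hq : Continuous q := (continuous_mk ξ).subtype_mk _
    have hqv : q v = z := Subtype.ext hv
    obtain ⟨O, hO, hO'⟩ := isOpen_induced_iff.1 (hV.preimage hq)
    have hvO : v.1 ∈ O := by
      have : v ∈ q ⁻¹' V := by rw [Set.mem_preimage, hqv]; exact hz
      rw [← hO'] at this
      exact this
    obtain ⟨ε, hε, hball⟩ := Metric.isOpen_iff.1 hO v.1 hvO
    obtain ⟨u, h0, hne, c, hc, hu⟩ :=
      exists_intPt_mem (O := (fun w : Orth n => w.1) ⁻¹' Metric.ball v.1 ε) (Metric.isOpen_ball.preimage continuous_val)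
        (Metric.mem_ball_self hε)
    let w := scale c hc (intPt u h0 hne)
    have hmem : ∀ t, q (mix v w t) ∈ V := fun t => by
      have : (mix v w t).1 ∈ O := hball ((convex_ball v.1 ε) (Metric.mem_ball_self hε) hu
        (sub_nonneg.2 t.2.2) t.2.1 (by ring))
      have h' : mix v w t ∈ q ⁻¹' V := hO' ▸ this
      exact h'
    refine ⟨q w, ?_, ?_, Set.range (fun t => q (mix v w t)), Set.range_subset_iff.2 hmem,
      ⟨⟨0, le_rfl, zero_le_one⟩, ?_⟩, ⟨⟨1, zero_le_one, le_rfl⟩, ?_⟩,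
      isPreconnected_range (hq.comp (continuous_mix v w))⟩
    · show (P.mk ξ w).IsRational
      rw [← mk_scale ξ (v := intPt u h0 hne) hc rfl]
      exact isRational_intPt ξ u h0 hne
    · have := hmem ⟨1, zero_le_one, le_rfl⟩
      rwa [mix_one] at this
    · show q (mix v w ⟨0, le_rfl, zero_le_one⟩) = z
      rw [mix_zero, hqv]
    · show q (mix v w ⟨1, zero_le_one, le_rfl⟩) = q w
      rw [mix_one]
  obtain ⟨a, ha, haV, Ta, hTa, hxT, haT, hTac⟩ := near x hx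
  obtain ⟨b, hb, hbV, Tb, hTb, hyT, hbT, hTbc⟩ := near y hy
  obtain ⟨M, hM, haM, hbM, hMc⟩ : ∃ M, M ⊆ V ∧ a ∈ M ∧ b ∈ M ∧ IsPreconnected M := by
    by_cases hab : a = b
    · exact ⟨{a}, Set.singleton_subset_iff.2 haV, rfl, hab ▸ rfl, isPreconnected_singleton⟩
    obtain ⟨τ, p, hp, hpt, hp0, hp1, e0, e1⟩ := segment_mem hU (fun e => hab (Subtype.ext e)) ha hb
    exact ⟨Set.range p, Set.range_subset_iff.2 (hseg a b haV hbV τ p hpt e0 e1), ⟨_, hp0⟩, ⟨_, hp1⟩,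
      isPreconnected_range hp⟩
  exact ⟨Ta ∪ M ∪ Tb, Set.union_subset (Set.union_subset hTa hM) hTb, Or.inl (Or.inl hxT), Or.inr hyT,
    (hTac.union a haT haM hMc).union b (Or.inr hbM) hbT hTbc⟩

theorem isLocalMax_unique (hF : F.IsQuasiSeparated) (hT2 : T2Space (P F)) (hUc : IsCompact U) (hU : IsConvex U)
    [TopologicalSpace Γ] [OrderTopology Γ] (hΦc : Continuous Φ) (hΦ : IsStrictQuasiConcaveOn U Φ) (x y : U)
    (hxm : IsLocalMax Φ x) (hle : Φ x ≤ Φ y) : x = y := by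
  by_contra hne
  haveI : CompactSpace U := isCompact_iff_compactSpace.1 hUc
  obtain ⟨C, hC, hCcl, hCW⟩ := exists_mem_nhds_isClosed_subset (show {z | Φ z ≤ Φ x} ∈ 𝓝 x from hxm)
  obtain ⟨W, hW1, hWo, hxW⟩ := mem_nhds_iff.1 (show {z | Φ z ≤ Φ x} ∈ 𝓝 x from hxm)
  obtain ⟨C', hC', hC'cl, hC'W⟩ := exists_mem_nhds_isClosed_subset (hWo.mem_nhds hxW)
  set E : Set U := C' ∩ {z | Φ x ≤ Φ z} with hE
  have hEcl : IsClosed E := hC'cl.inter (isClosed_le continuous_const hΦc)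
  have hE' : IsClosed (Subtype.val '' E) := (hUc.isClosed.isClosedEmbedding_subtypeVal).isClosedMap _ hEcl
  have hfin : ∀ (n : ICone) (ξ : F.obj (op n)), (Subtype.val '' E ∩ P.cell ξ).Finite := by
    intro n ξ
    set Z := simplex n ∩ P.mk ξ ⁻¹' (Subtype.val '' E) with hZ
    have hZc : IsCompact Z := isCompact_simplex.inter_right (hE'.preimage (continuous_mk ξ))
    obtain ⟨O, hO, hOW⟩ := isOpen_induced_iff.1 hWo
    have hiso : ∀ a ∈ Z, ∃ N ∈ 𝓝 a, ∀ b ∈ N ∩ Z, b = a := by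
      intro a ha
      let mid : Orth n → Orth n := fun b => mix a b ⟨1 / 2, by norm_num, by norm_num⟩
      have hmid : Continuous mid :=
        (continuous_const.add (continuous_val.const_smul (1 / 2 : ℝ))).subtype_mk _
      have hmida : mid a = a := by
        refine Subtype.ext (funext fun i => ?_)
        show (1 - (1 / 2 : ℝ)) * a.1 i + (1 / 2 : ℝ) * a.1 i = a.1 i
        ring
      obtain ⟨a', ha', haa⟩ := ha.2
      refine ⟨(fun b => P.mk ξ (mid b)) ⁻¹' O, (hO.preimage ((continuous_mk ξ).comp hmid)).mem_nhds ?_, ?_⟩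
      · show P.mk ξ (mid a) ∈ O
        rw [hmida, ← haa]
        have : a' ∈ W := hC'W ha'.1
        rw [← hOW] at this
        exact this
      · rintro b ⟨hbO, hb⟩
        by_contra hba
        obtain ⟨b', hb', hbb⟩ := hb.2
        have hnp : ¬ ∃ c : ℝ, b.1 = c • a.1 := by
          rintro ⟨c, hc⟩
          have h1 : ∑ i, b.1 i = 1 := hb.1
          have h2 : ∑ i, a.1 i = 1 := ha.1
          rw [hc] at h1
          simp only [Pi.smul_apply, smul_eq_mul, ← Finset.mul_sum, h2, mul_one] at h1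
          exact hba (Subtype.ext (by rw [hc, h1, one_smul]))
        have hab := mix_between a b (t := ⟨1 / 2, by norm_num, by norm_num⟩) (by norm_num) (by norm_num)
        have hm : P.mk ξ (mid b) ∈ U := hU.1 n ξ a (mid b) b (haa ▸ a'.2) (hbb ▸ b'.2) hab
        have h := hΦ n ξ a (mid b) b (haa ▸ a'.2) hm (hbb ▸ b'.2) hnp hab
        have hbig : Φ x < Φ ⟨P.mk ξ (mid b), hm⟩ := by
          refine lt_of_le_of_lt (le_min ?_ ?_) h
          · rw [show (⟨P.mk ξ a, haa ▸ a'.2⟩ : U) = a' from Subtype.ext haa.symm]; exact ha'.2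
          · rw [show (⟨P.mk ξ b, hbb ▸ b'.2⟩ : U) = b' from Subtype.ext hbb.symm]; exact hb'.2
        have hmW : (⟨P.mk ξ (mid b), hm⟩ : U) ∈ W := hOW ▸ hbO
        exact absurd hbig (not_lt.2 (hW1 hmW))
    choose! N hN hNa using hiso
    obtain ⟨t, ht, hcov⟩ := hZc.elim_nhds_subcover N hN
    refine (t.finite_toSet.image (P.mk ξ)).subset ?_
    rintro z ⟨hz, w, rfl⟩
    rw [← mk_normalize ξ w] at hz ⊢
    have hwZ : normalize w ∈ Z := ⟨normalize_mem w, hz⟩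
    obtain ⟨a, ha, haw⟩ := Set.mem_iUnion₂.1 (hcov hwZ)
    exact ⟨a, ha, by rw [hNa a (ht a ha) _ ⟨haw, hwZ⟩]⟩
  have hrest : IsClosed ((Subtype.val : U → P F) ⁻¹' (Subtype.val '' E \ {(x : P F)})) :=
    (isClosed_of_finite_inter_cell hF fun n ξ => (hfin n ξ).subset
      (Set.inter_subset_inter_left _ Set.sdiff_subset)).preimage continuous_subtype_val
  have hO₁ : interior C' ∩ ((Subtype.val : U → P F) ⁻¹' (Subtype.val '' E \ {(x : P F)}))ᶜ ∈ 𝓝 x :=
    inter_mem (interior_mem_nhds.2 hC') (hrest.isOpen_compl.mem_nhds fun h => h.2 rfl)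
  obtain ⟨K, hK, hKcl, hKO⟩ := exists_mem_nhds_isClosed_subset hO₁
  have honly : ∀ z ∈ K, Φ x ≤ Φ z → z = x := fun z hz hcz => by
    by_contra hzx
    exact (hKO hz).2 ⟨⟨z, ⟨interior_subset (hKO hz).1, hcz⟩, rfl⟩, fun e => hzx (Subtype.ext e)⟩
  have hyK : y ∉ K := fun h => hne (honly y h hle).symm
  have hB : ∀ z ∈ K \ interior K, Φ z < Φ x := fun z hz => not_le.1 fun hcz => hz.2 (by
    rw [honly z hz.1 hcz]
    exact mem_interior_iff_mem_nhds.2 hK)
  have key : ∀ V : Set U, IsPreconnected V → x ∈ V → y ∈ V → (∀ z ∈ K \ interior K, z ∉ V) → False := by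
    intro V hV hxV hyV hBV
    obtain ⟨z, -, hz1, hz2⟩ := hV (interior K) Kᶜ isOpen_interior hKcl.isOpen_compl
      (fun z hz => by
        by_cases hzK : z ∈ K
        · exact Or.inl (by_contra fun h => hBV z ⟨hzK, h⟩ hz)
        · exact Or.inr hzK)
      ⟨x, hxV, mem_interior_iff_mem_nhds.2 hK⟩ ⟨y, hyV, hyK⟩
    exact hz2 (interior_subset hz1)
  rcases (K \ interior K).eq_empty_or_nonempty with hempty | hBne
  · exact key Set.univ (isPreconnected_of_segments hU isOpen_univ fun _ _ _ _ _ _ _ _ _ _ => trivial) trivial trivial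
      fun z hz => by rw [hempty] at hz; exact hz.elim
  · obtain ⟨z₀, hz₀, hmax⟩ := ((hKcl.sdiff isOpen_interior).isCompact).exists_isMaxOn hBne hΦc.continuousOn
    refine key {z | Φ z₀ < Φ z} (isPreconnected_of_segments hU (isOpen_lt continuous_const hΦc) ?_) (hB z₀ hz₀)
      ((hB z₀ hz₀).trans_le hle) fun z hz => not_lt.2 (hmax hz)
    intro a b ha hb τ p hp e0 e1 t
    by_cases ht0 : t.1 = 0
    · rw [show p t = a from Subtype.ext (by rw [hp, show t = ⟨0, le_rfl, zero_le_one⟩ from Subtype.ext ht0, mix_zero, e0])]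
      exact ha
    by_cases ht1 : t.1 = 1
    · rw [show p t = b from Subtype.ext (by rw [hp, show t = ⟨1, zero_le_one, le_rfl⟩ from Subtype.ext ht1, mix_one, e1])]
      exact hb
    exact (lt_min ha hb).trans (segment_strict hΦ hp e0 e1 ht0 ht1)

end QC

end Groth.Agent.Fan37
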