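import Groth.Agent.Fan37.Topology
import Groth.Prelude.Def_W4c6instabfans3FanCvx

/-! The fan of a finite union of rational polyhedral cones and the space of rays. -/

set_option autoImplicit false
universe u

namespace Groth.Agent.Fan37

open Instab Instab.Fan CategoryTheory Opposite Topology

variable {N : ℕ}

/-- The nonnegative real span of a finite set of integral vectors. -/
def cone (G : Finset (Fin N → ℤ)) : Set (Fin N → ℝ) :=
  {x | ∃ c : (Fin N → ℤ) → ℝ, (∀ g, 0 ≤ c g) ∧ x = G.sum fun g => c g • fun j => (g j : ℝ)}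

theorem smul_mem_cone {G : Finset (Fin N → ℤ)} {x : Fin N → ℝ} (hx : x ∈ cone G) {t : ℝ} (ht : 0 ≤ t) :
    t • x ∈ cone G := by
  obtain ⟨c, hc, rfl⟩ := hx
  exact ⟨fun g => t * c g, fun g => mul_nonneg ht (hc g), by simp only [Finset.smul_sum, smul_smul]⟩

/-- The linear map with columns the elements of `T`. -/
noncomputable def colMap (T : Finset (Fin N → ℤ)) : (Fin T.card → ℤ) →ₗ[ℤ] (Fin N → ℤ) :=
  Fintype.linearCombination ℤ fun i => (T.equivFin.symm i).1

theorem rm_colMap (T : Finset (Fin N → ℤ)) (v : Fin T.card → ℝ) :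
    rm (colMap T) v = ∑ g : T, v (T.equivFin g) • fun j => (g.1 j : ℝ) := by
  funext j
  rw [rm_apply, Finset.sum_apply, ← T.equivFin.sum_comp]
  refine Finset.sum_congr rfl fun g _ => ?_
  simp [colMap, Fintype.linearCombination_apply_single, mul_comm]

theorem rm_colMap_mem {T G : Finset (Fin N → ℤ)} (h : T ⊆ G) (v : Fin T.card → ℝ) (hv : ∀ i, 0 ≤ v i) :
    rm (colMap T) v ∈ cone G := by
  classical
  refine ⟨fun g => if h : g ∈ T then v (T.equivFin ⟨g, h⟩) else 0, fun g => by dsimp; split_ifs <;> simp [hv], ?_⟩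
  rw [rm_colMap, ← Finset.sum_subset h (fun g _ hg => by simp [hg]), ← Finset.sum_coe_sort T]
  exact Finset.sum_congr rfl fun g _ => by simp

/-- Carathéodory: a point of a cone lies in a simplicial subcone. -/
theorem exists_colMap {G : Finset (Fin N → ℤ)} {x : Fin N → ℝ} (hx : x ∈ cone G) :
    ∃ T ⊆ G, Function.Injective (colMap T) ∧ ∃ v : Fin T.card → ℝ, (∀ i, 0 ≤ v i) ∧ rm (colMap T) v = x := by
  classical
  obtain ⟨c, hc, hsum⟩ := hx
  induction h : G.card using Nat.strong_induction_on generalizing G c with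
  | _ s ih =>
    subst h
    by_cases hinj : Function.Injective (colMap G)
    · refine ⟨G, subset_rfl, hinj, fun i => c (G.equivFin.symm i).1, fun i => hc _, ?_⟩
      rw [rm_colMap, hsum, ← Finset.sum_coe_sort G]
      exact Finset.sum_congr rfl fun g _ => by simp
    obtain ⟨a, ha, hpos⟩ : ∃ a : (Fin N → ℤ) → ℤ, (∑ g ∈ G, a g • g) = 0 ∧ ∃ g ∈ G, 0 < a g := by
      rw [← LinearMap.ker_eq_bot, Submodule.eq_bot_iff] at hinj
      push Not at hinj
      obtain ⟨z, hz, hzne⟩ := hinj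
      obtain ⟨i, hi⟩ := Function.ne_iff.1 hzne
      let a₀ : (Fin N → ℤ) → ℤ := fun g => if h : g ∈ G then z (G.equivFin ⟨g, h⟩) else 0
      have h0 : (∑ g ∈ G, a₀ g • g) = 0 := by
        rw [← Finset.sum_coe_sort G, ← G.equivFin.symm.sum_comp]
        simpa [a₀, colMap, Fintype.linearCombination_apply] using hz
      have hne : a₀ (G.equivFin.symm i).1 ≠ 0 := by simpa [a₀] using hi
      rcases hne.lt_or_gt with hlt | hgt
      · exact ⟨-a₀, by simp only [Pi.neg_apply, neg_smul, Finset.sum_neg_distrib, h0, neg_zero], _, (G.equivFin.symm i).2, neg_pos.2 hlt⟩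
      · exact ⟨a₀, h0, _, (G.equivFin.symm i).2, hgt⟩
    obtain ⟨g₀, hg₀, hag₀⟩ := hpos
    obtain ⟨g₁, hg₁, hmin⟩ := (G.filter fun g => 0 < a g).exists_min_image (fun g => c g / (a g : ℝ))
      ⟨g₀, Finset.mem_filter.2 ⟨hg₀, hag₀⟩⟩
    obtain ⟨hg₁, hag₁⟩ := Finset.mem_filter.1 hg₁
    set t := c g₁ / (a g₁ : ℝ) with ht
    have hpos₁ : (0 : ℝ) < a g₁ := Int.cast_pos.2 hag₁
    have ht0 : 0 ≤ t := div_nonneg (hc _) hpos₁.le
    let c' : (Fin N → ℤ) → ℝ := fun g => if g ∈ G then c g - t * a g else 0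
    have hc' : ∀ g, 0 ≤ c' g := fun g => by
      simp only [c']
      split_ifs with hg
      · rcases lt_or_ge 0 (a g) with h | h
        · exact sub_nonneg.2 ((le_div_iff₀ (Int.cast_pos.2 h)).1 (hmin g (Finset.mem_filter.2 ⟨hg, h⟩)))
        · have h2 : t * (a g : ℝ) ≤ 0 := mul_nonpos_of_nonneg_of_nonpos ht0 (Int.cast_nonpos.2 h)
          linarith [hc g]
      · exact le_rfl
    obtain ⟨T, hT, hres⟩ := ih _ (Finset.card_erase_lt_of_mem hg₁) c' hc' (G := G.erase g₁) (by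
      rw [hsum]
      have e : (G.sum fun g => c' g • fun j => (g j : ℝ)) = G.sum fun g => c g • fun j => (g j : ℝ) := by
        funext j
        have h1 : (∑ g ∈ G, (a g : ℝ) * (g j : ℝ)) = 0 := by
          have := congr_fun ha j
          simp only [Finset.sum_apply, Pi.smul_apply, smul_eq_mul, Pi.zero_apply] at this
          exact_mod_cast this
        simp only [Finset.sum_apply, Pi.smul_apply, smul_eq_mul]
        rw [Finset.sum_congr rfl fun g hg => by rw [show c' g = c g - t * a g from if_pos hg, sub_mul, mul_assoc],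
          Finset.sum_sub_distrib, ← Finset.mul_sum, h1, mul_zero, sub_zero]
      rw [← e, Finset.sum_erase]
      rw [show c' g₁ = c g₁ - t * a g₁ from if_pos hg₁, ht, div_mul_cancel₀ _ hpos₁.ne', sub_self, zero_smul]) rfl
    exact ⟨T, hT.trans (Finset.erase_subset _ _), hres⟩

theorem isClosed_cone (G : Finset (Fin N → ℤ)) : IsClosed (cone G) := by
  classical
  have e : cone G = ⋃ T ∈ G.powerset.filter fun T => Function.Injective (colMap T),
      rm (colMap T) '' {v | ∀ i, 0 ≤ v i} := by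
    refine Set.Subset.antisymm (fun x hx => ?_) (Set.iUnion₂_subset fun T hT => ?_)
    · obtain ⟨T, hT, hinj, v, hv, hvx⟩ := exists_colMap hx
      exact Set.mem_iUnion₂.2 ⟨T, Finset.mem_filter.2 ⟨Finset.mem_powerset.2 hT, hinj⟩, v, hv, hvx⟩
    · rintro _ ⟨v, hv, rfl⟩
      exact rm_colMap_mem (Finset.mem_powerset.1 (Finset.mem_filter.1 hT).1) v hv
  rw [e]
  refine (Finset.finite_toSet _).isClosed_biUnion fun T hT => ?_
  have he : IsClosedEmbedding (rm (colMap T)) :=
    LinearMap.isClosedEmbedding_of_injective (LinearMap.ker_eq_bot.2 (rm_injective (Finset.mem_filter.1 hT).2))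
  refine he.isClosedMap _ ?_
  simp only [Set.setOf_forall]
  exact isClosed_iInter fun i => isClosed_le continuous_const (continuous_apply i)

/-- Unit representative of a ray. -/
noncomputable def rayNorm : Rays N → (Fin N → ℝ) :=
  Quot.lift (fun v => ‖v.1‖⁻¹ • v.1) fun v w ⟨c, hc, h⟩ => by
    show ‖v.1‖⁻¹ • v.1 = ‖w.1‖⁻¹ • w.1
    rw [h, norm_smul, Real.norm_eq_abs, abs_of_pos hc, smul_smul]
    congr 1
    field_simp

theorem rayNorm_injective : Function.Injective (rayNorm (N := N)) := by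
  intro r r' h
  obtain ⟨v, rfl⟩ := Quot.exists_rep r
  obtain ⟨w, rfl⟩ := Quot.exists_rep r'
  have hv : 0 < ‖v.1‖ := norm_pos_iff.2 v.2
  have hw : 0 < ‖w.1‖ := norm_pos_iff.2 w.2
  refine Quot.sound ⟨‖w.1‖ * ‖v.1‖⁻¹, mul_pos hw (inv_pos.2 hv), ?_⟩
  rw [mul_smul, show ‖v.1‖⁻¹ • v.1 = ‖w.1‖⁻¹ • w.1 from h, smul_smul, mul_inv_cancel₀ hw.ne', one_smul]

instance t2Space_rays : T2Space (Rays N) :=
  T2Space.of_injective_continuous rayNorm_injective (continuous_quot_lift _
    ((continuous_subtype_val.norm.inv₀ fun v => norm_ne_zero_iff.2 v.2).smul continuous_subtype_val))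

variable {ι : Type} {K : ι → Set (Fin N → ℝ)}

theorem toVec_eq {n : ICone} (φ : RFan.Cone K n) (v : Fin n.dim → ℝ) : RFan.toVec K n φ v = rm φ.1 v := rfl

theorem toVec_ne_zero {n : ICone} (φ : RFan.Cone K n) (v : Orth n) : RFan.toVec K n φ v.1 ≠ 0 := fun h =>
  v.2.2 (rm_injective φ.2.1 (h.trans (rm φ.1).map_zero.symm))

/-- The canonical map to the space of rays. -/
def toRays (K : ι → Set (Fin N → ℝ)) : P (RFan K) → Rays N :=
  Quot.lift (fun p => Quot.mk _ ⟨RFan.toVec K p.1.1 p.1.2 p.2.1, toVec_ne_zero p.1.2 p.2⟩) (by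
    rintro _ _ ⟨φ, ξ, v, w, c, hc, h⟩
    refine Quot.sound ⟨c, hc, ?_⟩
    show rm ξ.1 w.1 = c • rm (ξ.1.comp φ.toLin) v.1
    rw [rm_comp, h, map_smul]
    rfl)

theorem toRays_injective : Function.Injective (toRays K) := by
  intro x y h
  obtain ⟨n₁, φ, v, rfl⟩ := exists_mk x
  obtain ⟨n₂, φ', w, rfl⟩ := exists_mk y
  have h' := congr_arg rayNorm h
  have e : ‖rm φ.1 v.1‖⁻¹ • rm φ.1 v.1 = ‖rm φ'.1 w.1‖⁻¹ • rm φ'.1 w.1 := h'
  have hv : 0 < ‖rm φ.1 v.1‖ := norm_pos_iff.2 (toVec_ne_zero φ v)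
  have hw : 0 < ‖rm φ'.1 w.1‖ := norm_pos_iff.2 (toVec_ne_zero φ' w)
  obtain ⟨m, α, β, z, hcomp, hy, hy'⟩ := exists_common φ.1 φ'.1 φ.2.1 φ'.2.1
    (scale _ (inv_pos.2 hv) v) (scale _ (inv_pos.2 hw) w) (by rw [scale_val, scale_val, map_smul, map_smul, e])
  rw [mk_scale (F := RFan K) φ (v := v) (w := scale _ (inv_pos.2 hv) v) (inv_pos.2 hv) rfl,
    mk_scale (F := RFan K) φ' (v := w) (w := scale _ (inv_pos.2 hw) w) (inv_pos.2 hw) rfl]
  exact mk_eq_of_common α β (Subtype.ext hcomp) z one_pos one_pos (by rw [one_smul, hy]) (by rw [one_smul, hy'])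

theorem continuous_toRays : Continuous (toRays K) := by
  refine continuous_quot_lift _ (continuous_sigma fun e => ?_)
  exact continuous_quot_mk.comp (((rm e.2.1).continuous_of_finiteDimensional.comp continuous_val).subtype_mk _)

theorem exists_embedding [Finite ι]
    (hK : ∀ a, ∃ (m : ℕ) (gen : Fin m → Finset (Fin N → ℤ)), K a = Set.iUnion fun l => cone (gen l)) :
    IsEmbedding (toRays K) ∧
      Set.range (toRays K) = {r | ∃ w : {w : Fin N → ℝ // w ≠ 0}, r = Quot.mk _ w ∧ w.1 ∈ Set.iUnion K} := by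
  classical
  choose m gen hgen using hK
  have hclosed : ∀ a, IsClosed (K a) := fun a => hgen a ▸ isClosed_iUnion_of_finite fun l => isClosed_cone _
  have hsmul : ∀ a (x : Fin N → ℝ) (t : ℝ), x ∈ K a → 0 < t → t • x ∈ K a := by
    intro a x t hx ht
    rw [hgen a] at hx ⊢
    obtain ⟨l, hl⟩ := Set.mem_iUnion.1 hx
    exact Set.mem_iUnion.2 ⟨l, smul_mem_cone hl ht.le⟩
  let J := Σ a : ι, Σ l : Fin (m a), {T : Finset (Fin N → ℤ) // T ∈ (gen a l).powerset ∧ 0 < T.card ∧ Function.Injective (colMap T)}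
  haveI : ∀ (a : ι) (l : Fin (m a)), Finite {T : Finset (Fin N → ℤ) // T ∈ (gen a l).powerset ∧ 0 < T.card ∧ Function.Injective (colMap T)} :=
    fun a l => ((gen a l).powerset.finite_toSet.subset fun T hT => hT.1).to_subtype
  haveI : Finite J := by infer_instance
  let C : J → Σ n : ICone, RFan.Cone K n := fun j => ⟨⟨(⟨j.2.2.1.card, j.2.2.2.2.1⟩ : ℕ+)⟩,
    ⟨colMap j.2.2.1, j.2.2.2.2.2, j.1, fun v hv => by
      rw [hgen j.1]
      refine Set.mem_iUnion.2 ⟨j.2.1, ?_⟩
      have := rm_colMap_mem (Finset.mem_powerset.1 j.2.2.2.1) (fun i => (v i : ℝ)) fun i => Int.cast_nonneg (hv i)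
      convert this using 1
      exact funext fun i => (rm_cast _ _ i).symm⟩⟩
  have hcov : ∀ w : {w : Fin N → ℝ // w ≠ 0}, w.1 ∈ Set.iUnion K → ∃ (j : J) (z : Orth (C j).1),
      toRays K (P.mk (F := RFan K) (C j).2 z) = Quot.mk _ w := by
    intro w hw
    obtain ⟨a, ha⟩ := Set.mem_iUnion.1 hw
    rw [hgen a] at ha
    obtain ⟨l, hl⟩ := Set.mem_iUnion.1 ha
    obtain ⟨T, hT, hinj, v, hv, hvw⟩ := exists_colMap hl
    have hv0 : v ≠ 0 := fun h => w.2 (by rw [← hvw, h, map_zero])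
    have hcard : 0 < T.card := Nat.pos_of_ne_zero fun h0 => hv0 (funext fun i => absurd i.2 (by omega))
    refine ⟨⟨a, l, T, Finset.mem_powerset.2 hT, hcard, hinj⟩, ⟨v, hv, hv0⟩, ?_⟩
    exact congr_arg (Quot.mk _) (Subtype.ext hvw)
  have hrange : ∀ x : P (RFan K), ∃ w : {w : Fin N → ℝ // w ≠ 0}, toRays K x = Quot.mk _ w ∧ w.1 ∈ Set.iUnion K := by
    intro x
    obtain ⟨n, φ, v, rfl⟩ := exists_mk x
    obtain ⟨a, ha⟩ := φ.2.2
    refine ⟨⟨_, toVec_ne_zero φ v⟩, rfl, Set.mem_iUnion.2 ⟨a, ?_⟩⟩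
    have := eq_univ_of_intPt (S := {z : Orth n | rm φ.1 z.1 ∈ K a})
      ((hclosed a).preimage ((rm φ.1).continuous_of_finiteDimensional.comp continuous_val))
      (fun z hz c hc => by
        show rm φ.1 (c • z.1) ∈ K a
        rw [map_smul]; exact hsmul a _ c hz hc)
      (fun u h0 hne => by
        show rm φ.1 (fun i => (u i : ℝ)) ∈ K a
        rw [show rm φ.1 (fun i => (u i : ℝ)) = fun j => (φ.1 u j : ℝ) from funext (rm_cast _ _)]
        exact ha u h0)
    exact Set.eq_univ_iff_forall.1 this v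
  haveI : CompactSpace (P (RFan K)) := by
    refine ⟨?_⟩
    have : (Set.univ : Set (P (RFan K))) = ⋃ j : J, P.cell (F := RFan K) (C j).2 := by
      refine (Set.eq_univ_of_forall fun x => ?_).symm
      obtain ⟨w, hw, hwK⟩ := hrange x
      obtain ⟨j, z, hz⟩ := hcov w hwK
      exact Set.mem_iUnion.2 ⟨j, z, toRays_injective (hz.trans hw.symm)⟩
    rw [this]
    exact isCompact_iUnion fun j => isCompact_cell _
  refine ⟨(continuous_toRays.isClosedEmbedding toRays_injective).isEmbedding, Set.Subset.antisymm ?_ ?_⟩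
  · rintro _ ⟨x, rfl⟩; exact hrange x
  · rintro _ ⟨w, rfl, hw⟩
    obtain ⟨j, z, hz⟩ := hcov w hw
    exact ⟨_, hz⟩

end Groth.Agent.Fan37
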