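import Groth.Agent.Fan37.Basic
import Mathlib.Analysis.Normed.Module.FiniteDimension
import Mathlib.Topology.Sequences

/-! The topology of the projective realization of a formal fan. -/

set_option autoImplicit false
universe u

namespace Groth.Agent.Fan37

open Instab Instab.Fan CategoryTheory Opposite Limits Topology Filter

variable {n k : ICone} {F G : Fan.{u}}

instance (n : ICone) : T2Space (Orth n) :=
  inferInstanceAs (T2Space {v : Fin n.dim → ℝ // (∀ i, 0 ≤ v i) ∧ v ≠ 0})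

instance (n : ICone) : FirstCountableTopology (Orth n) :=
  inferInstanceAs (FirstCountableTopology {v : Fin n.dim → ℝ // (∀ i, 0 ≤ v i) ∧ v ≠ 0})

theorem continuous_val : Continuous fun v : Orth n => v.1 := continuous_subtype_val

theorem sum_pos (v : Orth n) : 0 < ∑ i, v.1 i :=
  lt_of_le_of_ne (Finset.sum_nonneg fun i _ => v.2.1 i) fun h => v.2.2 (funext fun i =>
    (Finset.sum_eq_zero_iff_of_nonneg fun i _ => v.2.1 i).1 h.symm i (Finset.mem_univ i))

/-- Normalisation of a vector to total weight one. -/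
noncomputable def normalize (v : Orth n) : Orth n := scale (∑ i, v.1 i)⁻¹ (inv_pos.2 (sum_pos v)) v

theorem continuous_normalize : Continuous (normalize (n := n)) := by
  refine Continuous.subtype_mk ?_ _
  refine Continuous.smul (Continuous.inv₀ ?_ fun v => (sum_pos v).ne') continuous_val
  exact continuous_finsetSum _ fun i _ => (continuous_apply i).comp continuous_val

theorem normalize_eq_iff {v w : Orth n} : normalize v = normalize w ↔ ∃ c : ℝ, 0 < c ∧ w.1 = c • v.1 := by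
  constructor
  · intro h
    refine ⟨(∑ i, w.1 i) * (∑ i, v.1 i)⁻¹, mul_pos (sum_pos w) (inv_pos.2 (sum_pos v)), ?_⟩
    have h' : (∑ i, v.1 i)⁻¹ • v.1 = (∑ i, w.1 i)⁻¹ • w.1 := congr_arg Subtype.val h
    rw [← smul_smul, h', smul_smul, mul_inv_cancel₀ (sum_pos w).ne', one_smul]
  · rintro ⟨c, hc, h⟩
    refine Subtype.ext ?_
    show (∑ i, v.1 i)⁻¹ • v.1 = (∑ i, w.1 i)⁻¹ • w.1
    rw [h]
    simp only [Pi.smul_apply, smul_eq_mul, ← Finset.mul_sum, smul_smul]
    congr 1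
    field_simp

theorem mk_normalize (ξ : F.obj (op n)) (v : Orth n) : P.mk ξ (normalize v) = P.mk ξ v :=
  (mk_scale ξ (inv_pos.2 (sum_pos v)) (rfl : (normalize v).1 = _)).symm

theorem sum_normalize (v : Orth n) : ∑ i, (normalize v).1 i = 1 := by
  show ∑ i, ((∑ i, v.1 i)⁻¹ • v.1) i = 1
  simp only [Pi.smul_apply, smul_eq_mul, ← Finset.mul_sum]
  exact inv_mul_cancel₀ (sum_pos v).ne'

/-- The standard simplex. -/
def simplex (n : ICone) : Set (Orth n) := {v | ∑ i, v.1 i = 1}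

theorem isCompact_simplex : IsCompact (simplex n) := by
  have e : IsEmbedding fun v : Orth n => v.1 := IsEmbedding.subtypeVal
  rw [e.isCompact_iff]
  have : (fun v : Orth n => v.1) '' simplex n = stdSimplex ℝ (Fin n.dim) := by
    ext v
    constructor
    · rintro ⟨w, hw, rfl⟩; exact ⟨w.2.1, hw⟩
    · rintro ⟨h0, h1⟩
      exact ⟨⟨v, h0, fun h => by simp [h] at h1⟩, h1, rfl⟩
  rw [this]
  exact isCompact_stdSimplex ℝ _

theorem normalize_mem (v : Orth n) : normalize v ∈ simplex n := sum_normalize v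

theorem isClosedEmbedding_push (φ : k ⟶ n) : IsClosedEmbedding (push φ) := by
  have he : IsClosedEmbedding (rm φ.toLin) :=
    LinearMap.isClosedEmbedding_of_injective (LinearMap.ker_eq_bot.2 (rm_injective φ.injective))
  have hc : Continuous (push φ) := (he.continuous.comp continuous_val).subtype_mk _
  have hval : IsEmbedding fun v : Orth n => v.1 := IsEmbedding.subtypeVal
  have hemb : IsEmbedding (push φ) :=
    IsEmbedding.of_comp hc continuous_val (he.isEmbedding.comp (IsEmbedding.subtypeVal (p := fun v : Fin k.dim → ℝ => (∀ i, 0 ≤ v i) ∧ v ≠ 0)))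
  refine ⟨hemb, ?_⟩
  have e : Set.range (push φ) = (fun v : Orth n => v.1) ⁻¹' (rm φ.toLin '' {x | ∀ i, 0 ≤ x i}) := by
    ext w
    constructor
    · rintro ⟨v, rfl⟩; exact ⟨v.1, v.2.1, rfl⟩
    · rintro ⟨x, hx, hxw⟩
      refine ⟨⟨x, hx, fun h0 => w.2.2 ?_⟩, Subtype.ext hxw⟩
      have hxw' : rm φ.toLin x = w.1 := hxw
      rw [← hxw', h0, map_zero]
  rw [e]
  refine (he.isClosedMap _ ?_).preimage continuous_val
  simp only [Set.setOf_forall]
  exact isClosed_iInter fun i => isClosed_le continuous_const (continuous_apply i)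

theorem continuous_push (φ : k ⟶ n) : Continuous (push φ) := (isClosedEmbedding_push φ).continuous

theorem push_scale (φ : k ⟶ n) {c : ℝ} (hc : 0 < c) (v : Orth k) : push φ (scale c hc v) = scale c hc (push φ v) :=
  Subtype.ext (realMap_smul φ c v.1)

/-- An integral point of the orthant. -/
def intPt (u : Fin n.dim → ℤ) (h0 : ∀ i, 0 ≤ u i) (hne : u ≠ 0) : Orth n :=
  ⟨fun i => (u i : ℝ), fun i => Int.cast_nonneg (h0 i), fun h => hne (funext fun i => Int.cast_eq_zero.1 (congr_fun h i : (u i : ℝ) = 0))⟩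

/-- A closed scaling invariant set containing all integral points is everything. -/
theorem eq_univ_of_intPt {S : Set (Orth n)} (hS : IsClosed S)
    (hinv : ∀ v : Orth n, v ∈ S → ∀ (c : ℝ) (hc : 0 < c), scale c hc v ∈ S)
    (h : ∀ u h0 hne, intPt u h0 hne ∈ S) : S = Set.univ := by
  refine Set.eq_univ_of_forall fun v => ?_
  let u : ℕ → Fin n.dim → ℤ := fun M i => ⌈((M : ℝ) + 1) * v.1 i⌉
  have h0 : ∀ M i, 0 ≤ u M i := fun M i => Int.ceil_nonneg (mul_nonneg (by positivity) (v.2.1 i))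
  have hne : ∀ M, u M ≠ 0 := fun M h => v.2.2 (funext fun i => le_antisymm (by
    have h1 := (Int.le_ceil (((M : ℝ) + 1) * v.1 i)).trans (by rw [show ⌈((M : ℝ) + 1) * v.1 i⌉ = 0 from congr_fun h i, Int.cast_zero])
    exact nonpos_of_mul_nonpos_right h1 (by positivity)) (v.2.1 i))
  let w : ℕ → Orth n := fun M => scale ((M : ℝ) + 1)⁻¹ (by positivity) (intPt (u M) (h0 M) (hne M))
  refine hS.mem_of_tendsto (f := w) (b := atTop) ?_ (Eventually.of_forall fun M => hinv _ (h _ _ _) _ _)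
  have e : IsEmbedding fun v : Orth n => v.1 := IsEmbedding.subtypeVal
  rw [e.tendsto_nhds_iff, tendsto_pi_nhds]
  intro i
  have h1 : Tendsto (fun M : ℕ => v.1 i + 1 / ((M : ℝ) + 1)) atTop (𝓝 (v.1 i)) := by
    simpa using tendsto_one_div_add_atTop_nhds_zero_nat.const_add (v.1 i)
  refine tendsto_of_tendsto_of_tendsto_of_le_of_le tendsto_const_nhds h1 (fun M => ?_) fun M => ?_
  · show v.1 i ≤ ((M : ℝ) + 1)⁻¹ * (⌈((M : ℝ) + 1) * v.1 i⌉ : ℤ)
    rw [inv_mul_eq_div, le_div_iff₀ (by positivity), mul_comm]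
    exact Int.le_ceil _
  · show ((M : ℝ) + 1)⁻¹ * (⌈((M : ℝ) + 1) * v.1 i⌉ : ℤ) ≤ v.1 i + 1 / ((M : ℝ) + 1)
    rw [inv_mul_eq_div, div_le_iff₀ (by positivity)]
    have e' : (v.1 i + 1 / ((M : ℝ) + 1)) * ((M : ℝ) + 1) = ((M : ℝ) + 1) * v.1 i + 1 := by field_simp
    rw [e']
    exact (Int.ceil_lt_add_one _).le

theorem isRational_intPt (ξ : F.obj (op n)) (u : Fin n.dim → ℤ) (h0 : ∀ i, 0 ≤ u i) (hne : u ≠ 0) :
    (P.mk ξ (intPt u h0 hne)).IsRational := by
  let L : (Fin one.dim → ℤ) →ₗ[ℤ] (Fin n.dim → ℤ) := (LinearMap.proj (⟨0, Nat.one_pos⟩ : Fin one.dim)).smulRight u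
  have hL : ∀ z j, L z j = z ⟨0, Nat.one_pos⟩ * u j := fun z j => rfl
  let φ : one ⟶ n := ⟨L, fun z z' h => by
    funext i
    obtain ⟨j, hj⟩ := Function.ne_iff.1 hne
    have := congr_fun h j
    rw [hL, hL] at this
    have hi : i = ⟨0, Nat.one_pos⟩ := Subsingleton.elim (α := Fin 1) _ _
    rw [hi]
    exact mul_right_cancel₀ hj this, fun z hz j => by rw [hL]; exact mul_nonneg (hz _) (h0 j)⟩
  refine ⟨F.map φ.op ξ, ?_⟩
  rw [mk_map]
  congr 1
  refine Subtype.ext (funext fun j => ?_)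
  show (u j : ℝ) = rm L (fun _ => (1 : ℝ)) j
  have := rm_cast L (fun _ => 1) j
  simp only [Int.cast_one] at this
  rw [this, hL]
  simp

theorem isClosed_iff {S : Set (P F)} : IsClosed S ↔ ∀ (n : ICone) (ξ : F.obj (op n)), IsClosed (P.mk ξ ⁻¹' S) := by
  have h1 : IsClosed S ↔ IsClosed ((Quot.mk (Rel F)) ⁻¹' S) := isClosed_coinduced
  rw [h1]
  exact (isClosed_sigma_iff).trans ⟨fun h n ξ => h ⟨n, ξ⟩, fun h e => h e.1 e.2⟩

theorem continuous_mk (ξ : F.obj (op n)) : Continuous (P.mk ξ) :=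
  continuous_iff_isClosed.2 fun _ hS => isClosed_iff.1 hS n ξ

theorem continuous_map (f : F ⟶ G) : Continuous (P.map f) :=
  continuous_iff_isClosed.2 fun _ hS => isClosed_iff.2 fun n ξ => isClosed_iff.1 hS n (f.app (op n) ξ)

theorem isCompact_cell (ξ : F.obj (op n)) : IsCompact (P.cell ξ) := by
  have : P.cell ξ = P.mk ξ '' simplex n := by
    ext x
    exact ⟨fun ⟨v, hv⟩ => ⟨normalize v, normalize_mem v, (mk_normalize ξ v).trans hv⟩, fun ⟨v, _, hv⟩ => ⟨v, hv⟩⟩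
  rw [this]
  exact isCompact_simplex.image (continuous_mk ξ)

section Bounded

variable {ψ : F ⟶ G}

theorem exists_finset_cover (hψ : IsBoundedMap ψ) (n : ICone) (ξ : G.obj (op n)) :
    ∃ s : Finset (Σ k : ICone, F.obj (op k) × (k ⟶ n)), ∀ (x : P F) (v : Orth n),
      P.map ψ x = P.mk ξ v ↔ ∃ e ∈ s, ∃ z : Orth e.1, P.mk e.2.1 z = x ∧ push e.2.2 z = v := by
  classical
  obtain ⟨s, hs⟩ := hψ n ξ
  refine ⟨s.image fun e => ⟨e.1, (pullback.fst ψ (coneMap ξ)).app _ e.2,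
    ((pullback.snd ψ (coneMap ξ)).app _ e.2).down⟩, fun x v => ⟨fun h => ?_, ?_⟩⟩
  · rw [← map_coneMap_mk ξ v] at h
    obtain ⟨y, hy₁, hy₂⟩ := exists_lift _ _ h
    obtain ⟨e, he, z, rfl⟩ := hs y
    rw [map_mk] at hy₁ hy₂
    rw [mk_rep, idc_eq_iff] at hy₂
    obtain ⟨c, hc, hv⟩ := hy₂
    refine ⟨_, Finset.mem_image_of_mem _ he, scale c hc z, (mk_scale _ hc rfl).symm.trans hy₁, ?_⟩
    rw [push_scale]
    exact Subtype.ext hv.symm
  · rintro ⟨e', he', z, rfl, rfl⟩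
    obtain ⟨e, -, rfl⟩ := Finset.mem_image.1 he'
    rw [map_mk, pullback_condition_obj, coneMap_app, mk_map]

theorem mk_preimage_image (hψ : IsBoundedMap ψ) (n : ICone) (ξ : G.obj (op n)) :
    ∃ s : Finset (Σ k : ICone, F.obj (op k) × (k ⟶ n)), ∀ C : Set (P F),
      P.mk ξ ⁻¹' (P.map ψ '' C) = ⋃ e ∈ s, push e.2.2 '' (P.mk e.2.1 ⁻¹' C) := by
  obtain ⟨s, hs⟩ := exists_finset_cover hψ n ξ
  refine ⟨s, fun C => Set.ext fun v => ⟨?_, ?_⟩⟩
  · rintro ⟨x, hx, hxv⟩
    obtain ⟨e, he, z, rfl, rfl⟩ := (hs x v).1 hxv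
    exact Set.mem_iUnion₂.2 ⟨e, he, z, hx, rfl⟩
  · intro h
    obtain ⟨e, he, z, hz, rfl⟩ := Set.mem_iUnion₂.1 h
    exact ⟨_, hz, (hs _ _).2 ⟨e, he, z, rfl, rfl⟩⟩

theorem isClosedMap_map (hψ : IsBoundedMap ψ) : IsClosedMap (P.map ψ) := fun C hC => isClosed_iff.2 fun n ξ => by
  obtain ⟨s, hs⟩ := mk_preimage_image hψ n ξ
  rw [hs C]
  exact s.finite_toSet.isClosed_biUnion fun e _ =>
    (isClosedEmbedding_push e.2.2).isClosedMap _ (isClosed_iff.1 hC _ _)

theorem finite_fiber (hψ : IsBoundedMap ψ) (y : P G) : (P.map ψ ⁻¹' {y}).Finite := by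
  obtain ⟨n, ξ, v, rfl⟩ := exists_mk y
  obtain ⟨s, hs⟩ := exists_finset_cover hψ n ξ
  refine ((s.finite_toSet.biUnion fun e _ => ((Set.finite_singleton v).preimage
    (isClosedEmbedding_push e.2.2).injective.injOn).image (P.mk e.2.1))).subset fun x hx => ?_
  obtain ⟨e, he, z, hz, hv⟩ := (hs x v).1 hx
  exact Set.mem_iUnion₂.2 ⟨e, he, z, hv, hz⟩

theorem exists_finset_range (hψ : IsBoundedMap ψ) (n : ICone) (ξ : G.obj (op n)) :
    ∃ s : Finset (Σ k : ICone, k ⟶ n), {v : Orth n | P.mk ξ v ∈ Set.range (P.map ψ)} =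
      ⋃ e ∈ s, {v : Orth n | ∃ (y : Orth e.1) (c : ℝ), 0 < c ∧ v.1 = c • e.2.realMap y.1} := by
  classical
  obtain ⟨s, hs⟩ := exists_finset_cover hψ n ξ
  refine ⟨s.image fun e => ⟨e.1, e.2.2⟩, Set.ext fun v => ⟨?_, ?_⟩⟩
  · rintro ⟨x, hx⟩
    obtain ⟨e, he, z, -, rfl⟩ := (hs x v).1 hx
    exact Set.mem_iUnion₂.2 ⟨_, Finset.mem_image_of_mem _ he, z, 1, one_pos, by rw [one_smul]; rfl⟩
  · intro h
    obtain ⟨e', he', y, c, hc, hv⟩ := Set.mem_iUnion₂.1 h
    obtain ⟨e, he, rfl⟩ := Finset.mem_image.1 he'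
    refine ⟨P.mk e.2.1 (scale c hc y), (hs _ v).2 ⟨e, he, _, rfl, ?_⟩⟩
    rw [push_scale]
    exact Subtype.ext hv.symm

theorem surjective_iff_rational (hψ : IsBoundedMap ψ) :
    Function.Surjective (P.map ψ) ↔ ∀ y : P G, y.IsRational → y ∈ Set.range (P.map ψ) := by
  refine ⟨fun h y _ => h y, fun h y => ?_⟩
  obtain ⟨n, ξ, v, rfl⟩ := exists_mk y
  have := eq_univ_of_intPt (S := P.mk ξ ⁻¹' Set.range (P.map ψ))
    (isClosed_iff.1 (isClosedMap_map hψ).isClosed_range n ξ)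
    (fun w hw c hc => by
      show P.mk ξ (scale c hc w) ∈ Set.range (P.map ψ)
      rw [← mk_scale ξ (v := w) hc rfl]; exact hw)
    (fun u h0 hne => h _ (isRational_intPt ξ u h0 hne))
  exact Set.eq_univ_iff_forall.1 this v

theorem isClosedEmbedding_map (hψ : IsBoundedMap ψ) (hinj : ∀ n : ICone, Function.Injective (ψ.app (op n))) :
    IsClosedEmbedding (P.map ψ) :=
  .of_continuous_injective_isClosedMap (continuous_map ψ) (map_injective hinj) (isClosedMap_map hψ)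

end Bounded

section QS

variable (hF : F.IsQuasiSeparated)

include hF in
theorem isClosed_image_mk (ξ : F.obj (op n)) {S : Set (Orth n)} (hS : IsClosed S)
    (hinv : ∀ v w : Orth n, v ∈ S → ∀ c : ℝ, 0 < c → w.1 = c • v.1 → w ∈ S) : IsClosed (P.mk ξ '' S) := by
  have hb : IsBoundedMap (coneMap ξ) := fun m σ => hF n m ξ σ
  have e : P.mk ξ '' S = P.map (coneMap ξ) '' (P.mk (idc.{u} n) '' S) := by
    rw [Set.image_image]
    exact Set.image_congr fun v _ => (map_coneMap_mk ξ v).symm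
  rw [e]
  refine isClosedMap_map hb _ (isClosed_iff.2 fun m α => ?_)
  have : P.mk α ⁻¹' (P.mk (idc.{u} n) '' S) = push α.down ⁻¹' S := by
    ext z
    constructor
    · rintro ⟨v, hv, he⟩
      rw [mk_rep α, idc_eq_iff] at he
      obtain ⟨c, hc, hc'⟩ := he
      exact hinv v _ hv c hc hc'
    · exact fun h => ⟨_, h, (mk_rep α z).symm⟩
  rw [this]
  exact hS.preimage (continuous_push _)

include hF in
theorem isClosed_cell (ξ : F.obj (op n)) : IsClosed (P.cell ξ) := by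
  rw [P.cell, ← Set.image_univ]
  exact isClosed_image_mk hF ξ isClosed_univ fun _ _ _ _ _ _ => Set.mem_univ _

include hF in
theorem isClosed_iff_cell {S : Set (P F)} :
    IsClosed S ↔ ∀ (n : ICone) (ξ : F.obj (op n)), IsClosed (S ∩ P.cell ξ) := by
  refine ⟨fun h n ξ => h.inter (isClosed_cell hF ξ), fun h => isClosed_iff.2 fun n ξ => ?_⟩
  have e : P.mk ξ ⁻¹' S = P.mk ξ ⁻¹' (S ∩ P.cell ξ) :=
    Set.ext fun v => ⟨fun hv => ⟨hv, v, rfl⟩, fun hv => hv.1⟩
  rw [e]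
  exact (h n ξ).preimage (continuous_mk ξ)

include hF in
theorem t1Space : T1Space (P F) := by
  refine ⟨fun x => ?_⟩
  obtain ⟨n, ξ, v, rfl⟩ := exists_mk x
  have e : ({P.mk ξ v} : Set (P F)) = P.mk ξ '' (normalize ⁻¹' {normalize v}) := by
    refine Set.Subset.antisymm (Set.singleton_subset_iff.2 ⟨v, rfl, rfl⟩) ?_
    rintro _ ⟨w, hw, rfl⟩
    rw [Set.mem_singleton_iff, ← mk_normalize ξ w, show normalize w = normalize v from hw, mk_normalize]
  rw [e]
  refine isClosed_image_mk hF ξ (isClosed_singleton.preimage continuous_normalize) fun a b ha c hc hb => ?_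
  show normalize b = normalize v
  rw [← normalize_eq_iff.2 ⟨c, hc, hb⟩]
  exact ha

include hF in
theorem isClosed_of_finite_inter_cell {S : Set (P F)}
    (h : ∀ (n : ICone) (ξ : F.obj (op n)), (S ∩ P.cell ξ).Finite) : IsClosed S :=
  haveI := t1Space hF
  (isClosed_iff_cell hF).2 fun n ξ => (h n ξ).isClosed

include hF in
theorem exists_subseq_lift (x : ℕ → P F) (x₀ : P F) (hx : Tendsto x atTop (𝓝 x₀)) :
    ∃ (n : ICone) (σ : F.obj (op n)) (r : ℕ → ℕ) (v : ℕ → Orth n) (v₀ : Orth n),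
      StrictMono r ∧ (∀ j, P.mk σ (v j) = x (r j)) ∧ P.mk σ v₀ = x₀ ∧ Tendsto v atTop (𝓝 v₀) := by
  by_cases h0 : {i | x i = x₀}.Infinite
  · obtain ⟨n, σ, v, hv⟩ := exists_mk x₀
    obtain ⟨r, hr, hr'⟩ := extraction_of_frequently_atTop (Nat.frequently_atTop_iff_infinite.2 h0)
    exact ⟨n, σ, r, fun _ => v, v, hr, fun j => hv.trans (hr' j).symm, hv, tendsto_const_nhds⟩
  rw [Set.not_infinite] at h0
  have hex : ∃ (n : ICone) (σ : F.obj (op n)), {i | x i ∈ P.cell σ}.Infinite := by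
    by_contra hc
    push Not at hc
    have hT : IsClosed (x '' {i | x i ≠ x₀}) := isClosed_of_finite_inter_cell hF fun n ξ =>
      ((hc n ξ).image x).subset fun y ⟨⟨i, _, hi⟩, hy⟩ => ⟨i, show x i ∈ P.cell ξ by rw [hi]; exact hy, hi⟩
    have hmem : x₀ ∈ (x '' {i | x i ≠ x₀})ᶜ := fun ⟨i, hi, he⟩ => hi he
    have h1 := hx.eventually (hT.isOpen_compl.mem_nhds hmem)
    have h2 : ∀ᶠ i in atTop, x i ≠ x₀ := by
      filter_upwards [Nat.cofinite_eq_atTop ▸ h0.compl_mem_cofinite] with i hi using hi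
    obtain ⟨i, hi, hi'⟩ := (h1.and h2).exists
    exact hi ⟨i, hi', rfl⟩
  obtain ⟨n, σ, hinf⟩ := hex
  obtain ⟨r₀, hr₀, hr₀'⟩ := extraction_of_frequently_atTop (Nat.frequently_atTop_iff_infinite.2 hinf)
  choose w hw using fun j => show ∃ v, P.mk σ v = x (r₀ j) from hr₀' j
  obtain ⟨v₀, hv₀, r₁, hr₁, hlim⟩ := isCompact_simplex.tendsto_subseq (fun j => normalize_mem (w j))
  refine ⟨n, σ, r₀ ∘ r₁, fun j => normalize (w (r₁ j)), v₀, hr₀.comp hr₁,
    fun j => (mk_normalize σ _).trans (hw _), ?_, hlim⟩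
  obtain ⟨J, hJ⟩ : ∃ J, ∀ j, J ≤ j → x (r₀ (r₁ j)) ≠ x₀ := by
    obtain ⟨M, hM⟩ := h0.bddAbove
    exact ⟨M + 1, fun j hj he => absurd (hM he) (not_le.2 (lt_of_lt_of_le (Nat.lt_of_succ_le hj) (hr₀.comp hr₁).le_apply))⟩
  let K : Set (Orth n) := insert v₀ (Set.range fun j => normalize (w (r₁ (j + J))))
  have hK : IsCompact K := (hlim.comp (tendsto_add_atTop_nat J)).isCompact_insert_range
  have hC : IsClosed (P.mk σ '' (normalize ⁻¹' K)) :=
    isClosed_image_mk hF σ (hK.isClosed.preimage continuous_normalize) fun a b ha c hc hb => by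
      show normalize b ∈ K
      rw [← normalize_eq_iff.2 ⟨c, hc, hb⟩]; exact ha
  have hnn : ∀ a : Orth n, normalize (normalize a) = normalize a := fun a =>
    (normalize_eq_iff.2 ⟨_, inv_pos.2 (sum_pos a), rfl⟩).symm
  have hmem : x₀ ∈ P.mk σ '' (normalize ⁻¹' K) := by
    refine hC.mem_of_tendsto (hx.comp ((hr₀.comp hr₁).tendsto_atTop.comp (tendsto_add_atTop_nat J)))
      (Eventually.of_forall fun j => ⟨normalize (w (r₁ (j + J))), ?_, (mk_normalize σ _).trans (hw _)⟩)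
    show normalize (normalize _) ∈ K
    rw [hnn]
    exact Or.inr ⟨j, rfl⟩
  obtain ⟨a, ha, hax⟩ := hmem
  rw [← mk_normalize] at hax
  rcases ha with ha | ⟨j, hj⟩
  · rw [ha] at hax; exact hax
  · exact absurd (by rw [← hj, mk_normalize, hw] at hax; exact hax) (hJ (j + J) (Nat.le_add_left _ _))

end QS

theorem exists_finset_pairs (hG : G.IsQuasiSeparated) {n n' : ICone} (ξ : G.obj (op n)) (ξ' : G.obj (op n')) :
    ∃ s : Finset (Σ k : ICone, (k ⟶ n) × (k ⟶ n')),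
      (∀ e ∈ s, G.map e.2.1.op ξ = G.map e.2.2.op ξ') ∧
      ∀ (v : Orth n) (w : Orth n'), P.mk ξ v = P.mk ξ' w ↔
        ∃ e ∈ s, ∃ (y : Orth e.1) (c c' : ℝ), 0 < c ∧ 0 < c' ∧
          v.1 = c • e.2.1.realMap y.1 ∧ w.1 = c' • e.2.2.realMap y.1 := by
  classical
  obtain ⟨s, hs⟩ := hG n n' ξ ξ'
  have hcond : ∀ (e : Σ k : ICone, (pullback (coneMap ξ) (coneMap ξ')).obj (op k)),
      G.map ((pullback.fst (coneMap ξ) (coneMap ξ')).app _ e.2).down.op ξ =
        G.map ((pullback.snd (coneMap ξ) (coneMap ξ')).app _ e.2).down.op ξ' := fun e => by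
    rw [← coneMap_app, ← coneMap_app]
    exact pullback_condition_obj _ _ e.2
  refine ⟨s.image fun e => ⟨e.1, ((pullback.fst (coneMap ξ) (coneMap ξ')).app _ e.2).down,
    ((pullback.snd (coneMap ξ) (coneMap ξ')).app _ e.2).down⟩, fun e' he' => ?_, fun v w => ⟨fun h => ?_, ?_⟩⟩
  · obtain ⟨e, -, rfl⟩ := Finset.mem_image.1 he'
    exact hcond e
  · rw [← map_coneMap_mk ξ v, ← map_coneMap_mk ξ' w] at h
    obtain ⟨y, h₁, h₂⟩ := exists_lift _ _ h
    obtain ⟨e, he, z, rfl⟩ := hs y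
    rw [map_mk, mk_rep, idc_eq_iff] at h₁ h₂
    obtain ⟨c, hc, hv⟩ := h₁
    obtain ⟨c', hc', hw⟩ := h₂
    exact ⟨_, Finset.mem_image_of_mem _ he, z, c, c', hc, hc', hv, hw⟩
  · rintro ⟨e', he', y, c, c', hc, hc', hv, hw⟩
    obtain ⟨e, -, rfl⟩ := Finset.mem_image.1 he'
    exact mk_eq_of_common _ _ (hcond e) y hc hc' hv hw

theorem injective_iff_rational (ψ : F ⟶ G) (hF : F.IsQuasiSeparated) :
    Function.Injective (P.map ψ) ↔
      ∀ x y : P F, x.IsRational → y.IsRational → P.map ψ x = P.map ψ y → x = y := by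
  refine ⟨fun h x y _ _ e => h e, fun h => ?_⟩
  intro x x' e
  obtain ⟨n₁, σ₁, v₁, rfl⟩ := exists_mk x
  obtain ⟨n₂, σ₂, v₂, rfl⟩ := exists_mk x'
  rw [map_mk, map_mk, mk_eq_iff] at e
  obtain ⟨k, φ₁, φ₂, y, c₁, c₂, e, h₁, h₂, e₁, e₂⟩ := e
  rw [← NatTrans.naturality_apply ψ φ₁.op σ₁, ← NatTrans.naturality_apply ψ φ₂.op σ₂] at e
  suffices hy : P.mk (F.map φ₁.op σ₁) y = P.mk (F.map φ₂.op σ₂) y by
    rw [mk_map, mk_map] at hy
    calc P.mk σ₁ v₁ = P.mk σ₁ (push φ₁ y) := (mk_scale σ₁ h₁ e₁).symm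
      _ = P.mk σ₂ (push φ₂ y) := hy
      _ = P.mk σ₂ v₂ := mk_scale σ₂ h₂ e₂
  generalize F.map φ₁.op σ₁ = a at e
  generalize F.map φ₂.op σ₂ = a' at e
  obtain ⟨s, -, hs⟩ := exists_finset_pairs hF a a'
  have hE : {y : Orth k | P.mk a y = P.mk a' y} =
      ⋃ t ∈ s, push t.2.1 '' {z | normalize (push t.2.1 z) = normalize (push t.2.2 z)} := by
    refine Set.ext fun y => ⟨fun hy => ?_, fun hy => ?_⟩
    · obtain ⟨t, ht, z, c, c', hc, hc', hv, hw⟩ := (hs y y).1 hy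
      refine Set.mem_iUnion₂.2 ⟨t, ht, scale c hc z, ?_, ?_⟩
      · show normalize _ = normalize _
        rw [normalize_eq_iff]
        refine ⟨c / c', div_pos hc hc', ?_⟩
        have e' : t.2.2.realMap z.1 = c'⁻¹ • y.1 := by rw [hw, inv_smul_smul₀ hc'.ne']
        simp only [push_scale, scale_val, push_val, e']
        rw [hv, smul_smul, smul_smul, smul_smul]
        congr 1
      · rw [push_scale]; exact Subtype.ext hv.symm
    · obtain ⟨t, ht, z, hz, rfl⟩ := Set.mem_iUnion₂.1 hy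
      obtain ⟨c, hc, hc'⟩ := normalize_eq_iff.1 (show normalize (push t.2.2 z) = normalize (push t.2.1 z) from Eq.symm hz)
      exact (hs _ _).2 ⟨t, ht, z, 1, c, one_pos, hc, by rw [one_smul]; rfl, hc'⟩
  have hcl : IsClosed {y : Orth k | P.mk a y = P.mk a' y} := by
    rw [hE]
    exact s.finite_toSet.isClosed_biUnion fun t _ => (isClosedEmbedding_push _).isClosedMap _
      (isClosed_eq (continuous_normalize.comp (continuous_push _)) (continuous_normalize.comp (continuous_push _)))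
  refine Set.eq_univ_iff_forall.1 (eq_univ_of_intPt hcl (fun v hv c hc => ?_) fun u h0 hne => ?_) y
  · show P.mk a _ = P.mk a' _
    rw [← mk_scale a (v := v) hc rfl, ← mk_scale a' (v := v) hc rfl]; exact hv
  · exact h _ _ (isRational_intPt a u h0 hne) (isRational_intPt a' u h0 hne) (by rw [map_mk, map_mk, e])

end Groth.Agent.Fan37
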